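import Cfsg.Agent.H674.SUBlock
import Cfsg.Agent.S0243
import Cfsg.Agent.H563.KG.KE6

/-!
# Commuting elements of `PSL₃(q)` (S2499)

An element of prime order `r`, `r ∣ |SL₂(q)|`, and the image of `diag(a, a, a⁻²)`; `kill_psl3_big` : a simple group
`L₃(q⁴)` contains elements of class `8` centralised by an element of order `s`, `s` of class `4`.
-/

set_option autoImplicit false

namespace Cfsg.Agent.H190.Cov

open Matrix Cfsg Cfsg.Agent.H674.SUBlock Cfsg.Agent.LieClassical Cfsg.Agent.H436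

section SL

variable {K : Type*} [Field K]

/-- `SL₂ → SL₃` -/
def emb : Matrix.SpecialLinearGroup (Fin 2) K →* Matrix.SpecialLinearGroup (Fin 3) K where
  toFun A := ⟨blk (d := 2) (k := 1) (A : Matrix (Fin 2) (Fin 2) K) 1, by
    rw [det_blk, Matrix.SpecialLinearGroup.det_coe, Matrix.det_one, one_mul]⟩
  map_one' := Subtype.ext (by
    show blk (d := 2) (k := 1) ((1 : Matrix.SpecialLinearGroup (Fin 2) K) : Matrix (Fin 2) (Fin 2) K) 1 = 1
    rw [Matrix.SpecialLinearGroup.coe_one, blk_one])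
  map_mul' A B := Subtype.ext (by
    show blk (d := 2) (k := 1) ((A * B : Matrix.SpecialLinearGroup (Fin 2) K) : Matrix (Fin 2) (Fin 2) K) 1 =
      blk (d := 2) (k := 1) (A : Matrix (Fin 2) (Fin 2) K) 1 * blk (d := 2) (k := 1) (B : Matrix (Fin 2) (Fin 2) K) 1
    rw [Matrix.SpecialLinearGroup.coe_mul, ← blk_mul, one_mul])

/-- the central torus of the block -/
def zz (a : Kˣ) : Matrix.SpecialLinearGroup (Fin 3) K :=
  ⟨blk (d := 2) (k := 1) ((a : K) • (1 : Matrix (Fin 2) (Fin 2) K)) (((a⁻¹ ^ 2 : Kˣ) : K) • (1 : Matrix (Fin 1) (Fin 1) K)), by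
    rw [det_blk, Matrix.det_smul, Matrix.det_smul, Matrix.det_one, Matrix.det_one, mul_one, mul_one, Fintype.card_fin,
      Fintype.card_fin, pow_one, ← Units.val_pow_eq_pow_val, ← Units.val_mul, inv_pow, mul_inv_cancel, Units.val_one]⟩

theorem zz_mul (a b : Kˣ) : zz (a * b) = zz a * zz b := by
  apply Subtype.ext
  show blk (d := 2) (k := 1) (((a * b : Kˣ) : K) • (1 : Matrix (Fin 2) (Fin 2) K))
      ((((a * b)⁻¹ ^ 2 : Kˣ) : K) • (1 : Matrix (Fin 1) (Fin 1) K)) = blk (d := 2) (k := 1) _ _ * blk (d := 2) (k := 1) _ _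
  rw [← blk_mul]
  congr 1
  · rw [smul_mul_smul_comm, one_mul, Units.val_mul]
  · rw [smul_mul_smul_comm, one_mul, ← Units.val_mul, mul_inv, mul_pow]

theorem zz_one : zz (1 : Kˣ) = 1 := by
  apply Subtype.ext
  show blk (d := 2) (k := 1) (((1 : Kˣ) : K) • (1 : Matrix (Fin 2) (Fin 2) K))
      ((((1 : Kˣ)⁻¹ ^ 2 : Kˣ) : K) • (1 : Matrix (Fin 1) (Fin 1) K)) = 1
  rw [inv_one, one_pow, Units.val_one, one_smul, one_smul, blk_one]

theorem zz_pow (a : Kˣ) (n : ℕ) : zz a ^ n = zz (a ^ n) := by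
  induction n with
  | zero => rw [pow_zero, pow_zero, zz_one]
  | succ n ih => rw [pow_succ, ih, pow_succ, zz_mul]

theorem zz_comm (a : Kˣ) (A : Matrix.SpecialLinearGroup (Fin 2) K) : Commute (emb A) (zz a) := by
  apply Subtype.ext
  show blk (d := 2) (k := 1) (A : Matrix (Fin 2) (Fin 2) K) 1 * blk (d := 2) (k := 1) _ _ =
    blk (d := 2) (k := 1) _ _ * blk (d := 2) (k := 1) (A : Matrix (Fin 2) (Fin 2) K) 1
  rw [← blk_mul, ← blk_mul]
  congr 1
  · rw [mul_smul_comm, smul_mul_assoc, mul_one, one_mul]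
  · rw [one_mul, mul_one]

theorem center_emb {A : Matrix.SpecialLinearGroup (Fin 2) K}
    (h : emb A ∈ Subgroup.center (Matrix.SpecialLinearGroup (Fin 3) K)) : A = 1 := by
  obtain ⟨c, -, h1⟩ := Matrix.SpecialLinearGroup.mem_center_iff.1 h
  have h2 : blk (d := 2) (k := 1) (A : Matrix (Fin 2) (Fin 2) K) (1 : Matrix (Fin 1) (Fin 1) K) =
      Matrix.scalar (Fin 3) c := h1.symm
  have h3 : c = 1 := by
    have h4 := congrFun (congrFun h2 (Fin.natAdd 2 (0 : Fin 1))) (Fin.natAdd 2 (0 : Fin 1))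
    rw [blk_natAdd, Matrix.one_apply_eq, Matrix.scalar_apply, Matrix.diagonal_apply_eq] at h4
    exact h4.symm
  subst h3
  rw [map_one] at h2
  have h4 : blk (d := 2) (k := 1) (A : Matrix (Fin 2) (Fin 2) K) (1 : Matrix (Fin 1) (Fin 1) K) =
      blk (d := 2) (k := 1) (1 : Matrix (Fin 2) (Fin 2) K) 1 := by
    rw [h2]; exact (blk_one (F := K) (d := 2) (k := 1)).symm
  exact Subtype.ext (blk_inj h4).1

theorem center_zz {a : Kˣ} (h : zz a ∈ Subgroup.center (Matrix.SpecialLinearGroup (Fin 3) K)) : a ^ 3 = 1 := by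
  obtain ⟨c, -, h1⟩ := Matrix.SpecialLinearGroup.mem_center_iff.1 h
  have h2 : blk (d := 2) (k := 1) ((a : K) • (1 : Matrix (Fin 2) (Fin 2) K))
      (((a⁻¹ ^ 2 : Kˣ) : K) • (1 : Matrix (Fin 1) (Fin 1) K)) = Matrix.scalar (Fin 3) c := h1.symm
  have h3 := congrFun (congrFun h2 (Fin.natAdd 2 (0 : Fin 1))) (Fin.natAdd 2 (0 : Fin 1))
  have h4 := congrFun (congrFun h2 (Fin.castAdd 1 (0 : Fin 2))) (Fin.castAdd 1 (0 : Fin 2))
  rw [blk_natAdd, Matrix.smul_apply, Matrix.one_apply_eq, Matrix.scalar_apply, Matrix.diagonal_apply_eq, smul_eq_mul,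
    mul_one] at h3
  rw [blk_castAdd, Matrix.smul_apply, Matrix.one_apply_eq, Matrix.scalar_apply, Matrix.diagonal_apply_eq, smul_eq_mul,
    mul_one] at h4
  have h5 : a = a⁻¹ ^ 2 := Units.ext (h4.trans h3.symm)
  calc a ^ 3 = a ^ 2 * a := by rw [pow_succ]
    _ = a ^ 2 * a⁻¹ ^ 2 := by rw [← h5]
    _ = 1 := by rw [inv_pow, mul_inv_cancel]

/-- **`PSL₃(q)`.** -/
theorem psl3 [Fintype K] {r : ℕ} (hr : r.Prime) (hrd : r ∣ Nat.card (Matrix.SpecialLinearGroup (Fin 2) K)) :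
    ∃ x z : Matrix.ProjectiveSpecialLinearGroup (Fin 3) K, orderOf x = r ∧ Commute x z ∧
      z ^ (Fintype.card K - 1) = 1 ∧ ∀ k, z ^ k = 1 → Fintype.card K - 1 ∣ 3 * k := by
  have := Fact.mk hr
  obtain ⟨A, hA⟩ := exists_prime_orderOf_dvd_card' r hrd
  obtain ⟨a, ha⟩ := IsCyclic.exists_ofOrder_eq_natCard (α := Kˣ)
  have hcard : Nat.card Kˣ = Fintype.card K - 1 := by rw [Nat.card_units, Nat.card_eq_fintype_card]
  let π : Matrix.SpecialLinearGroup (Fin 3) K →* Matrix.ProjectiveSpecialLinearGroup (Fin 3) K := QuotientGroup.mk' _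
  have hπ : ∀ y, π y = 1 ↔ y ∈ Subgroup.center (Matrix.SpecialLinearGroup (Fin 3) K) := fun y =>
    QuotientGroup.eq_one_iff y
  refine ⟨π (emb A), π (zz a), ?_, (zz_comm a A).map π, ?_, fun k hk => ?_⟩
  · refine orderOf_eq_prime ?_ fun h => ?_
    · rw [← map_pow, ← map_pow, ← hA, pow_orderOf_eq_one, map_one, map_one]
    · rw [hπ] at h
      have h1 := center_emb h
      rw [h1, orderOf_one] at hA
      exact hr.one_lt.ne hA
  · rw [← map_pow, zz_pow, ← hcard, ← ha, pow_orderOf_eq_one, zz_one, map_one]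
  · rw [← map_pow, zz_pow, hπ] at hk
    have h1 := center_zz hk
    rw [← pow_mul] at h1
    have h2 := orderOf_dvd_of_pow_eq_one h1
    rwa [ha, hcard, mul_comm] at h2

theorem dvd_sl2 [Fintype K] {r : ℕ} (hr : r.Prime) (h1 : r ∣ Fintype.card K ^ 2 - 1) (h2 : ¬ r ∣ Fintype.card K - 1) :
    r ∣ Nat.card (Matrix.SpecialLinearGroup (Fin 2) K) := by
  have h := Cfsg.Agent.S0243.result (F := K) rfl 2 (by norm_num)
  have h3 : r ∣ Nat.gcd 2 (Fintype.card K - 1) * ((Fintype.card K - 1) *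
      Nat.card (Matrix.ProjectiveSpecialLinearGroup (Fin 2) K)) := by
    rw [h, Fin.prod_univ_succ]
    simp only [Fin.val_zero, pow_zero]
    exact h1.mul_right _
  rcases hr.dvd_mul.1 h3 with h4 | h4
  · exact absurd (h4.trans (Nat.gcd_dvd_right _ _)) h2
  rcases hr.dvd_mul.1 h4 with h5 | h5
  · exact absurd h5 h2
  · refine h5.trans ?_
    rw [Subgroup.card_eq_card_quotient_mul_card_subgroup (Subgroup.center (Matrix.SpecialLinearGroup (Fin 2) K))]
    exact Dvd.intro _ rfl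

end SL

/-- the centraliser order `(q⁴ + 1)(q² - 1)` of the elements of class `8` kills `L₃(q⁴)` -/
theorem kill_psl3_big {S : Type*} [Group S] {p f r : ℕ} (hp : p.Prime) (hf : 1 ≤ f)
    (hS : IsNamed (.psl 3 (p ^ (4 * f))) S) (hr : Prim (p ^ f) 8 r)
    (hC : ∀ x : S, orderOf x = r → Nat.card ↥(Subgroup.centralizer ({x} : Set S)) ∣
      ((p ^ f) ^ 4 + 1) * ((p ^ f) ^ 2 - 1)) : False := by
  have hq : 2 ≤ p ^ f := hp.two_le.trans (Nat.le_self_pow (by omega) p)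
  obtain ⟨K, _, _, hK, ⟨e⟩⟩ := hS.real
  have hK' : Fintype.card K = (p ^ f) ^ 4 := by rw [hK, ← pow_mul, mul_comm]
  generalize p ^ f = q at *
  have h1 : r ∣ Fintype.card K ^ 2 - 1 := by
    rw [hK', ← pow_mul]
    exact hr.dvd dvd_rfl
  have h2 : ¬ r ∣ Fintype.card K - 1 := by
    rw [hK', hr.dvd_iff]
    norm_num
  obtain ⟨x, z, hx, hxz, -, hz⟩ := psl3 hr.prime (dvd_sl2 hr.prime h1 h2)
  have h3 := hC (e.symm x) (by rw [← hx]; exact MulEquiv.orderOf_eq e.symm x)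
  have h4 : e.symm z ∈ Subgroup.centralizer ({e.symm x} : Set S) :=
    Subgroup.mem_centralizer_singleton_iff.2 ((hxz.map e.symm).symm)
  have h5 : orderOf (e.symm z) ∣ (q ^ 4 + 1) * (q ^ 2 - 1) := by
    have h6 : orderOf (⟨e.symm z, h4⟩ : ↥(Subgroup.centralizer ({e.symm x} : Set S))) = orderOf (e.symm z) := by
      rw [← Subgroup.orderOf_coe]
    rw [← h6]
    exact (orderOf_dvd_natCard _).trans h3
  rw [MulEquiv.orderOf_eq] at h5
  have h6 := hz _ (orderOf_dvd_iff_pow_eq_one.1 h5)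
  rw [hK'] at h6
  obtain ⟨s, hs⟩ := exists_prim (q := q) (e := 4) hq (by norm_num) (by omega)
  have h7 : s ∣ q ^ 4 - 1 := hs.dvd dvd_rfl
  have hs5 : 4 < s := by
    have h8 : 4 ∣ s - 1 := by
      have := Fact.mk hs.prime
      have h9 : (q : ZMod s) ^ (s - 1) = 1 := ZMod.pow_card_sub_one_eq_one (by
        rw [Ne, ZMod.natCast_eq_zero_iff]; exact hs.not_dvd)
      exact (Cfsg.Agent.H56.Exc.prim_pow hs _).1 h9
    have := hs.prime.two_le
    have := Nat.le_of_dvd (by omega) h8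
    omega
  have h8 : s ∣ 3 * ((q ^ 4 + 1) * (q ^ 2 - 1)) := h7.trans h6
  rcases hs.prime.dvd_mul.1 h8 with h9 | h9
  · have := Nat.le_of_dvd (by norm_num) h9
    omega
  rcases hs.prime.dvd_mul.1 h9 with h9 | h9
  · have h10 : s ∣ 2 := by
      have h11 : q ^ 4 + 1 = (q ^ 4 - 1) + 2 := by
        have := Nat.one_le_pow 4 q (by omega)
        omega
      rw [h11] at h9
      exact (Nat.dvd_add_right h7).1 h9
    have := Nat.le_of_dvd (by norm_num) h10
    omega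
  · rw [hs.dvd_iff] at h9
    norm_num at h9

end Cfsg.Agent.H190.Cov
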