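import Cfsg.Agent.H190.Odd.Rad8
import Cfsg.Agent.H563.KG.KE6

/-!
# The classes `12`, `8` are good for all primes in `E₆(q)`, `²E₆(q)` (`q ≠ 2`) (S2499)

`good_e6c`, `good_te6c` (the proofs of `H190.Odd.good_e6b`, `good_te6b`, without parity).
-/

set_option autoImplicit false

namespace Cfsg.Agent.H190.Cov

open Cfsg Cfsg.Agent.OrdDiv Cfsg.Agent.H436 Cfsg.Agent.H902 Cfsg.Agent.H290.ElReg Cfsg.Agent.H290.ElTab
  Cfsg.Agent.H56.Exc Cfsg.Agent.H325.Loc Cfsg.Agent.H563.KG Cfsg.Agent.H190.Odd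

/-- `O_t = 1` through elements of orders `r` and `s` -/
theorem kill_gen {G : Type*} [Group G] [Finite G] {t r s K : ℕ} (ht : t.Prime) (hr : r.Prime) (hs : s.Prime)
    (hd : ¬ t ^ (K + 1) ∣ Nat.card G) (hrG : r ∣ Nat.card G)
    (hcr : ∀ x : G, orderOf x = r → IsCyclic ↥(Subgroup.centralizer ({x} : Set G))) (hsG : s ∣ Nat.card G)
    (hcs : ∀ x : G, orderOf x = s → ¬ t ∣ Nat.card ↥(Subgroup.centralizer ({x} : Set G)))
    (hnum : ∀ k ≤ K, ∀ c, 1 ≤ c → c ≤ t → t ^ k ≡ c [MOD r] → k ≤ 1) (hts : ¬ s ∣ t - 1) : KillB G t := by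
  intro A hAn hAc hAt
  have := Fact.mk hr
  have := Fact.mk hs
  have := Fact.mk ht
  have hPt : IsPGroup t A := fun a => ⟨1, by rw [pow_one]; exact Subtype.ext (hAt a a.2)⟩
  obtain ⟨k, hk⟩ := IsPGroup.iff_card.1 hPt
  have hkK : k ≤ K := by
    by_contra hcon
    exact hd ((pow_dvd_pow t (by omega)).trans (hk ▸ Subgroup.card_subgroup_dvd_card A))
  obtain ⟨x, hx⟩ := exists_prime_orderOf_dvd_card' r hrG
  obtain ⟨y, hy⟩ := exists_prime_orderOf_dvd_card' s hsG
  have h1 := modEq_comm (A := A) hr hx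
  have h2 := Cfsg.Agent.H190.Exc.card_comm_le ht hAt (hcr x hx)
  have h3 : 0 < Nat.card {a : G // a ∈ A ∧ x * a = a * x} := by
    have : Nonempty {a : G // a ∈ A ∧ x * a = a * x} := ⟨⟨1, one_mem A, by rw [mul_one, one_mul]⟩⟩
    exact Nat.card_pos
  generalize Nat.card {a : G // a ∈ A ∧ x * a = a * x} = c at h1 h2 h3
  rw [hk] at h1
  have hk1 := hnum k hkK c h3 h2 h1
  have h4 := dvd_card_sub_one (A := A) hs hy fun a ha hc => by
    have h5 : a ∈ Subgroup.centralizer ({y} : Set G) := Subgroup.mem_centralizer_singleton_iff.2 hc.symm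
    have h6 : orderOf a ∣ Nat.card ↥(Subgroup.centralizer ({y} : Set G)) := by
      have h7 : orderOf (⟨a, h5⟩ : ↥(Subgroup.centralizer ({y} : Set G))) = orderOf a := by
        rw [← Subgroup.orderOf_coe]
      rw [← h7]
      exact orderOf_dvd_natCard _
    rcases (Nat.dvd_prime ht).1 (orderOf_dvd_of_pow_eq_one (hAt a ha)) with h7 | h7
    · rwa [orderOf_eq_one_iff] at h7
    · rw [h7] at h6
      exact absurd h6 (hcs y hy)
  have hk' : k = 0 ∨ k = 1 := by omega
  rcases hk' with rfl | rfl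
  · rw [pow_zero] at hk
    exact Subgroup.card_eq_one.1 hk
  · rw [hk, pow_one] at h4
    exact absurd h4 hts

/-- the factorization of the order of `E₆(2)` -/
def fe2 : List (ℕ × ℕ) := [(2, 36), (3, 6), (5, 2), (7, 3), (13, 1), (17, 1), (31, 1), (73, 1)]

theorem fe2_eq : OL .E6 2 = (fe2.map fun x => x.1 ^ x.2).prod := by decide +kernel

theorem fe2_prime : ∀ x ∈ fe2, x.1.Prime := by
  intro x hx
  simp only [fe2, List.mem_cons, List.not_mem_nil, or_false] at hx
  rcases hx with rfl | rfl | rfl | rfl | rfl | rfl | rfl | rfl <;> norm_num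

/-- **`E₆(q)`, `3 ≤ q`, the classes 12, 8.** -/
theorem good_e6c3 {G : Type*} [Group G] [Finite G] {q n : ℕ} (hn : n ≤ 78) (hq : 3 ≤ q)
    (h12 : Ord G q 12 (Ph 12 q * (q ^ 2 + q + 1)))
    (h3x : 3 ∣ q - 1 → ∀ r, Prim q 12 r → ∀ x : G, orderOf x = r →
      ¬ 3 ∣ Nat.card ↥(Subgroup.centralizer ({x} : Set G)))
    (h8 : Ord G q 8 (Ph 8 q * (q ^ 2 - 1)))
    (hcyc : ∀ r, Prim q 8 r → ∀ x : G, orderOf x = r → IsCyclic ↥(Subgroup.centralizer ({x} : Set G)))
    (hd : Nat.card G ∣ OL .E6 q) (g12 : ncl 12 q ∣ Nat.card G) (g8 : ncl 8 q ∣ Nat.card G)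
    {t : ℕ} (ht : t.Prime) (htq : ¬ t ∣ q) (ht12 : ¬ Prim q 12 t) (ht8 : ¬ Prim q 8 t) (htG : t ∣ Nat.card G) :
    Good G n t ∨ KillB G t := by
  have hq1 : 1 ≤ q := by omega
  have c12 : Cls 12 := by unfold Cls; omega
  have c8 : Cls 8 := by unfold Cls; omega
  have k12 : ¬ t ∣ Ph 12 q := by rw [← ncl12_eq]; exact not_dvd_of_not_prim c12 hq1 ht ht12
  by_cases hA : t ∣ q ^ 2 + q + 1
  · by_cases h3 : t = 3
    · left
      subst h3
      have h4 : 3 ∣ q - 1 := by
        have h5 : (q : ZMod 3) = 1 := by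
          rw [← ZMod.natCast_eq_zero_iff] at hA
          push_cast at hA
          generalize (q : ZMod 3) = x at hA ⊢
          revert x; decide
        rw [← ZMod.natCast_eq_zero_iff, Nat.cast_sub hq1, h5, Nat.cast_one, sub_self]
      have h5 : 4 ≤ q := by
        by_contra hcon
        have : q = 3 := by omega
        subst this
        exact htq dvd_rfl
      exact ⟨ncl 12 q, g12, free_of c12 hq1 ht (h3x h4), Or.inl (lt_of_le_of_lt hn (gt12 h5))⟩
    · left
      have h4 := not8_plus (by omega) ht h3 hA ht8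
      have h5 : Free G t (ncl 8 q) := h8.free c8 hq1 ht h4
      rcases eq_or_lt_of_le hq with rfl | hq4
      · have h6 : (3 ^ 2 + 3 + 1 : ℕ) = 13 := by norm_num
        rw [h6] at hA
        obtain rfl := (Nat.prime_dvd_prime_iff_eq ht (by norm_num)).1 hA
        have h7 : ncl 8 3 = 41 := by decide +kernel
        refine ⟨ncl 8 3, g8, h5, Or.inr ⟨by rw [h7]; norm_num, fun k hk hkG => ?_⟩⟩
        have h8 : k ≤ 3 := pow_bound (M := OL .E6 3) (by decide +kernel) (hkG.trans hd)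
        rw [h7]
        interval_cases k <;> norm_num
      · exact ⟨ncl 8 q, g8, h5, Or.inl (lt_of_le_of_lt hn (gt8 hq4))⟩
  · have h4 : ¬ t ∣ Ph 12 q * (q ^ 2 + q + 1) := fun h => by
      rcases ht.dvd_mul.1 h with h | h
      · exact k12 h
      · exact hA h
    rcases eq_or_lt_of_le hq with rfl | hq4
    · have h7 : ncl 12 3 = 73 := by decide +kernel
      have h7' : ncl 8 3 = 41 := by decide +kernel
      have h5 : Free G t (ncl 12 3) := h12.free c12 hq1 ht h4
      have h6 := htG.trans hd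
      rw [fe3_eq] at h6
      obtain ⟨y, hy, hty⟩ := prime_mem ht fe3 fe3_prime h6
      simp only [fe3, List.mem_cons, List.not_mem_nil, or_false] at hy
      have key : ∀ K, ¬ t ^ (K + 1) ∣ OL .E6 3 → (∀ k ≤ K, 0 < k → ¬ 73 ∣ t ^ k - 1) → Good G n t := by
        intro K hK hk
        refine ⟨ncl 12 3, g12, h5, Or.inr ⟨by rw [h7]; norm_num, fun k hk0 hkG => ?_⟩⟩
        rw [h7]
        exact hk k (pow_bound hK (hkG.trans hd)) hk0
      rcases hy with rfl | rfl | rfl | rfl | rfl | rfl | rfl | rfl | rfl <;> (simp only at hty; subst hty)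
      · right
        refine kill_two (fun h => ?_) (h7' ▸ g8) (fun x hx => hcyc 41 ?_ x hx) (h7 ▸ g12) (fun x hx h => ?_)
        · have h8 : ¬ 2 ^ 20 ∣ OL .E6 3 := by decide +kernel
          exact h8 (h.trans hd)
        · exact prim_of_dvd c8 hq1 (by norm_num) (by rw [h7'])
        · have h9 := h12 73 (prim_of_dvd c12 hq1 (by norm_num) (by rw [h7])) x hx
          exact h4 (h.trans h9)
      · exact absurd dvd_rfl htq
      · exact Or.inl (key 2 (by decide +kernel) fun k hk hk0 => by interval_cases k <;> norm_num)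
      · exact Or.inl (key 2 (by decide +kernel) fun k hk hk0 => by interval_cases k <;> norm_num)
      · exact Or.inl (key 2 (by decide +kernel) fun k hk hk0 => by interval_cases k <;> norm_num)
      · exact absurd (by norm_num) hA
      · exact absurd (prim_of_dvd c8 hq1 (by norm_num) (by rw [h7'])) ht8
      · exact absurd (prim_of_dvd c12 hq1 (by norm_num) (by rw [h7])) ht12
      · exact Or.inl (key 1 (by decide +kernel) fun k hk hk0 => by interval_cases k <;> norm_num)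
    · left
      exact ⟨ncl 12 q, g12, h12.free c12 hq1 ht h4, Or.inl (lt_of_le_of_lt hn (gt12 hq4))⟩

/-- **`²E₆(q)`, `3 ≤ q`, the classes 12, 8.** -/
theorem good_te6c {G : Type*} [Group G] [Finite G] {q n : ℕ} (hn : n ≤ 78) (hq : 3 ≤ q)
    (h12 : Ord G q 12 (Ph 12 q * (q ^ 2 - q + 1)))
    (h3x : 3 ∣ q + 1 → ∀ r, Prim q 12 r → ∀ x : G, orderOf x = r →
      ¬ 3 ∣ Nat.card ↥(Subgroup.centralizer ({x} : Set G)))
    (h8 : Ord G q 8 (Ph 8 q * (q ^ 2 - 1)))
    (hcyc : ∀ r, Prim q 8 r → ∀ x : G, orderOf x = r → IsCyclic ↥(Subgroup.centralizer ({x} : Set G)))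
    (hd : Nat.card G ∣ OL .TE6 q) (g12 : ncl 12 q ∣ Nat.card G) (g8 : ncl 8 q ∣ Nat.card G)
    {t : ℕ} (ht : t.Prime) (htq : ¬ t ∣ q) (ht12 : ¬ Prim q 12 t) (ht8 : ¬ Prim q 8 t) (htG : t ∣ Nat.card G) :
    Good G n t ∨ KillB G t := by
  have hq1 : 1 ≤ q := by omega
  have hle : q ≤ q ^ 2 := Nat.le_self_pow (by norm_num) q
  have c12 : Cls 12 := by unfold Cls; omega
  have c8 : Cls 8 := by unfold Cls; omega
  have k12 : ¬ t ∣ Ph 12 q := by rw [← ncl12_eq]; exact not_dvd_of_not_prim c12 hq1 ht ht12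
  by_cases hA : t ∣ q ^ 2 - q + 1
  · by_cases h3 : t = 3
    · left
      subst h3
      have h4 : 3 ∣ q + 1 := by
        have h5 : (q : ZMod 3) = 2 := by
          rw [← ZMod.natCast_eq_zero_iff] at hA
          push_cast [Nat.cast_sub hle] at hA
          generalize (q : ZMod 3) = x at hA ⊢
          revert x; decide
        rw [← ZMod.natCast_eq_zero_iff]
        push_cast
        rw [h5]
        decide
      have h5 : 4 ≤ q := by
        by_contra hcon
        have : q = 3 := by omega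
        subst this
        exact htq dvd_rfl
      exact ⟨ncl 12 q, g12, free_of c12 hq1 ht (h3x h4), Or.inl (lt_of_le_of_lt hn (gt12 h5))⟩
    · left
      have h4 := not8_minus (by omega) ht h3 hA ht8
      have h5 : Free G t (ncl 8 q) := h8.free c8 hq1 ht h4
      rcases eq_or_lt_of_le hq with rfl | hq4
      · have h6 : (3 ^ 2 - 3 + 1 : ℕ) = 7 := by norm_num
        rw [h6] at hA
        obtain rfl := (Nat.prime_dvd_prime_iff_eq ht (by norm_num)).1 hA
        have h7 : ncl 8 3 = 41 := by decide +kernel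
        refine ⟨ncl 8 3, g8, h5, Or.inr ⟨by rw [h7]; norm_num, fun k hk hkG => ?_⟩⟩
        have h8 : k ≤ 3 := pow_bound (M := OL .TE6 3) (by decide +kernel) (hkG.trans hd)
        rw [h7]
        interval_cases k <;> norm_num
      · exact ⟨ncl 8 q, g8, h5, Or.inl (lt_of_le_of_lt hn (gt8 hq4))⟩
  · have h4 : ¬ t ∣ Ph 12 q * (q ^ 2 - q + 1) := fun h => by
      rcases ht.dvd_mul.1 h with h | h
      · exact k12 h
      · exact hA h
    rcases eq_or_lt_of_le hq with rfl | hq4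
    · have h7 : ncl 12 3 = 73 := by decide +kernel
      have h7' : ncl 8 3 = 41 := by decide +kernel
      have h5 : Free G t (ncl 12 3) := h12.free c12 hq1 ht h4
      have h6 := htG.trans hd
      rw [ft3_eq] at h6
      obtain ⟨y, hy, hty⟩ := prime_mem ht ft3 ft3_prime h6
      simp only [ft3, List.mem_cons, List.not_mem_nil, or_false] at hy
      have key : ∀ K, ¬ t ^ (K + 1) ∣ OL .TE6 3 → (∀ k ≤ K, 0 < k → ¬ 73 ∣ t ^ k - 1) → Good G n t := by
        intro K hK hk
        refine ⟨ncl 12 3, g12, h5, Or.inr ⟨by rw [h7]; norm_num, fun k hk0 hkG => ?_⟩⟩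
        rw [h7]
        exact hk k (pow_bound hK (hkG.trans hd)) hk0
      rcases hy with rfl | rfl | rfl | rfl | rfl | rfl | rfl | rfl | rfl | rfl <;> (simp only at hty; subst hty)
      · right
        refine kill_two (fun h => ?_) (h7' ▸ g8) (fun x hx => hcyc 41 ?_ x hx) (h7 ▸ g12) (fun x hx h => ?_)
        · have h8 : ¬ 2 ^ 20 ∣ OL .TE6 3 := by decide +kernel
          exact h8 (h.trans hd)
        · exact prim_of_dvd c8 hq1 (by norm_num) (by rw [h7'])
        · have h9 := h12 73 (prim_of_dvd c12 hq1 (by norm_num) (by rw [h7])) x hx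
          exact h4 (h.trans h9)
      · exact absurd dvd_rfl htq
      · exact Or.inl (key 2 (by decide +kernel) fun k hk hk0 => by interval_cases k <;> norm_num)
      · exact absurd (by norm_num) hA
      · exact Or.inl (key 2 (by decide +kernel) fun k hk hk0 => by interval_cases k <;> norm_num)
      · exact Or.inl (key 1 (by decide +kernel) fun k hk hk0 => by interval_cases k <;> norm_num)
      · exact Or.inl (key 1 (by decide +kernel) fun k hk hk0 => by interval_cases k <;> norm_num)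
      · exact absurd (prim_of_dvd c8 hq1 (by norm_num) (by rw [h7'])) ht8
      · exact Or.inl (key 1 (by decide +kernel) fun k hk hk0 => by interval_cases k <;> norm_num)
      · exact absurd (prim_of_dvd c12 hq1 (by norm_num) (by rw [h7])) ht12
    · left
      exact ⟨ncl 12 q, g12, h12.free c12 hq1 ht h4, Or.inl (lt_of_le_of_lt hn (gt12 hq4))⟩

/-- **`E₆(2)`, the classes 12, 8.** -/
theorem good_e6c2 {G : Type*} [Group G] [Finite G] {n : ℕ}
    (h12 : Ord G 2 12 (Ph 12 2 * (2 ^ 2 + 2 + 1))) (h8 : Ord G 2 8 (Ph 8 2 * (2 ^ 2 - 1)))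
    (hcyc : ∀ r, Prim 2 8 r → ∀ x : G, orderOf x = r → IsCyclic ↥(Subgroup.centralizer ({x} : Set G)))
    (hd : Nat.card G ∣ OL .E6 2) (g12 : ncl 12 2 ∣ Nat.card G) (g8 : ncl 8 2 ∣ Nat.card G)
    {t : ℕ} (ht : t.Prime) (htq : ¬ t ∣ 2) (ht12 : ¬ Prim 2 12 t) (ht8 : ¬ Prim 2 8 t) (htG : t ∣ Nat.card G) :
    Good G n t ∨ KillB G t := by
  have h7 : ncl 12 2 = 13 := by decide +kernel
  have h7' : ncl 8 2 = 17 := by decide +kernel
  have h6 := htG.trans hd
  rw [fe2_eq] at h6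
  obtain ⟨y, hy, hty⟩ := prime_mem ht fe2 fe2_prime h6
  simp only [fe2, List.mem_cons, List.not_mem_nil, or_false] at hy
  have key : ∀ K, ¬ t ^ (K + 1) ∣ OL .E6 2 → ¬ t ∣ Ph 12 2 * (2 ^ 2 + 2 + 1) →
      (∀ k ≤ K, 0 < k → ¬ 13 ∣ t ^ k - 1) → Good G n t := by
    intro K hK hN hk
    refine ⟨ncl 12 2, g12, h12.free c12 (by norm_num) ht hN, Or.inr ⟨by rw [h7]; norm_num, fun k hk0 hkG => ?_⟩⟩
    rw [h7]
    exact hk k (pow_bound hK (hkG.trans hd)) hk0
  have key8 : ∀ K, ¬ t ^ (K + 1) ∣ OL .E6 2 → ¬ t ∣ Ph 8 2 * (2 ^ 2 - 1) →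
      (∀ k ≤ K, 0 < k → ¬ 17 ∣ t ^ k - 1) → Good G n t := by
    intro K hK hN hk
    refine ⟨ncl 8 2, g8, h8.free c8 (by norm_num) ht hN, Or.inr ⟨by rw [h7']; norm_num, fun k hk0 hkG => ?_⟩⟩
    rw [h7']
    exact hk k (pow_bound hK (hkG.trans hd)) hk0
  rcases hy with rfl | rfl | rfl | rfl | rfl | rfl | rfl | rfl <;> (simp only at hty; subst hty)
  · exact absurd dvd_rfl htq
  · right
    refine kill_gen (K := 6) (r := 17) (s := 13) (by norm_num) (by norm_num) (by norm_num) (fun h => ?_) (h7' ▸ g8)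
      (fun x hx => hcyc 17 ?_ x hx) (h7 ▸ g12) (fun x hx h => ?_) ?_ (by norm_num)
    · have h8 : ¬ 3 ^ 7 ∣ OL .E6 2 := by decide +kernel
      exact h8 (h.trans hd)
    · exact prim_of_dvd c8 (by norm_num) (by norm_num) (by rw [h7'])
    · have h9 := h12 13 (prim_of_dvd c12 (by norm_num) (by norm_num) (by rw [h7])) x hx
      have h10 : ¬ 3 ∣ Ph 12 2 * (2 ^ 2 + 2 + 1) := by decide +kernel
      exact h10 (h.trans h9)
    · intro k hk c hc1 hc2 hm
      interval_cases k <;> interval_cases c <;> revert hm <;> decide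
  · exact Or.inl (key 2 (by decide +kernel) (by decide +kernel) fun k hk hk0 => by interval_cases k <;> norm_num)
  · exact Or.inl (key8 3 (by decide +kernel) (by decide +kernel) fun k hk hk0 => by interval_cases k <;> norm_num)
  · exact absurd (prim_of_dvd c12 (by norm_num) (by norm_num) (by rw [h7])) ht12
  · exact absurd (prim_of_dvd c8 (by norm_num) (by norm_num) (by rw [h7'])) ht8
  · exact Or.inl (key 1 (by decide +kernel) (by decide +kernel) fun k hk hk0 => by interval_cases k <;> norm_num)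
  · exact Or.inl (key 1 (by decide +kernel) (by decide +kernel) fun k hk hk0 => by interval_cases k <;> norm_num)

/-- **`E₆(q)`, the classes 12, 8.** -/
theorem good_e6c {G : Type*} [Group G] [Finite G] {q n : ℕ} (hn : n ≤ 78) (hq : 2 ≤ q)
    (h12 : Ord G q 12 (Ph 12 q * (q ^ 2 + q + 1)))
    (h3x : 3 ∣ q - 1 → ∀ r, Prim q 12 r → ∀ x : G, orderOf x = r →
      ¬ 3 ∣ Nat.card ↥(Subgroup.centralizer ({x} : Set G)))
    (h8 : Ord G q 8 (Ph 8 q * (q ^ 2 - 1)))
    (hcyc : ∀ r, Prim q 8 r → ∀ x : G, orderOf x = r → IsCyclic ↥(Subgroup.centralizer ({x} : Set G)))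
    (hd : Nat.card G ∣ OL .E6 q) (g12 : ncl 12 q ∣ Nat.card G) (g8 : ncl 8 q ∣ Nat.card G)
    {t : ℕ} (ht : t.Prime) (htq : ¬ t ∣ q) (ht12 : ¬ Prim q 12 t) (ht8 : ¬ Prim q 8 t) (htG : t ∣ Nat.card G) :
    Good G n t ∨ KillB G t := by
  rcases eq_or_lt_of_le hq with rfl | hq3
  · exact good_e6c2 h12 h8 hcyc hd g12 g8 ht htq ht12 ht8 htG
  · exact good_e6c3 hn hq3 h12 h3x h8 hcyc hd g12 g8 ht htq ht12 ht8 htG

end Cfsg.Agent.H190.Cov
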