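import Cfsg.Agent.H190.Odd.K8TE6
import Cfsg.Agent.H190.Cov.Rad8c
import Cfsg.Agent.H190.Cov.Kill3

/-!
# Subgroups of `E₆(q)` and `²E₆(q)` of index prime to the classes 12, 8, with a full torus of class 12 (S2499)

* `K128_E6` : such a subgroup of `E₆(q)`, containing commuting elements of prime orders of class 12 and 3, is the whole
  group;
* `K128_TE6` : such a subgroup of `²E₆(q)`, `3 ≤ q`, containing commuting elements of prime orders of class 12 and 6, is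
  the whole group.
-/

set_option autoImplicit false

namespace Cfsg.Agent.H190.Cov

open Cfsg Cfsg.Agent.OrdDiv Cfsg.Agent.H436 Cfsg.Agent.H902 Cfsg.Agent.H290.ElReg Cfsg.Agent.H290.ElTab
  Cfsg.Agent.H56.Exc Cfsg.Agent.H325.Loc Cfsg.Agent.H915.GN Cfsg.Agent.H264.FKS Cfsg.Agent.H325.Same Cfsg.Agent.H325.IsoExc
  Cfsg.Agent.H325.IsoFree Cfsg.Agent.H563.KG Cfsg.Agent.H190.Odd

/-- commuting elements of prime orders `r`, `t` of a subgroup -/
def Com {G : Type*} [Group G] (r t : ℕ) : Prop := ∃ x z : G, orderOf x = r ∧ orderOf z = t ∧ x * z = z * x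

theorem mem_of_index {G : Type*} [Group G] [Finite G] {S : Subgroup G} [S.Normal] {x : G} {r : ℕ} (hr : r.Prime)
    (hx : orderOf x = r) (h : ¬ r ∣ S.index) : x ∈ S := by
  have h1 : orderOf ((x : G) : G ⧸ S) ∣ r := by
    rw [← hx]
    exact orderOf_map_dvd (QuotientGroup.mk' S) x
  rcases (Nat.dvd_prime hr).1 h1 with h2 | h2
  · rw [orderOf_eq_one_iff, QuotientGroup.eq_one_iff] at h2
    exact h2
  · exfalso
    apply h
    rw [← h2]
    exact orderOf_dvd_natCard _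

/-- the kill of `F₄(q)` -/
theorem kill_f4 {B : Type} [Group B] [Finite B] {S : Subgroup B} [S.Normal] {q r t e m : ℕ} (hS : IsNamed (.f4 q) S)
    (hr : Prim q 12 r) (ht : t.Prime) (ht12 : ¬ Prim q 12 t) (hC : @Com B _ r t) (hrS : ¬ r ∣ S.index)
    (hidx : S.index ∣ e * m) (htm : ¬ t ∣ e * m) : False := by
  obtain ⟨x, z, hx, hz, hxz⟩ := hC
  have hxS : x ∈ S := mem_of_index hr.prime hx hrS
  have hzS : z ∈ S := mem_of_index ht hz fun h => htm (h.trans hidx)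
  obtain ⟨K, _, _, hK, ⟨φ⟩⟩ := hS.real
  have hq1 : 1 ≤ q := by rw [← hK]; exact Fintype.card_pos
  have hm12 : ((Ph 12 q : ℕ) : ℤ) = 1 - (q : ℤ) ^ 2 + (q : ℤ) ^ 4 := by
    rw [cast_Ph12 _ hq1]; ring
  have hb : Big ↥S r (Ph 12 q) 12 := (big_F4_12 hK hm12 hr).congr φ.symm
  have h1 := hb.card ⟨x, hxS⟩ (by rw [Subgroup.orderOf_mk]; exact hx)
  have h2 : (⟨z, hzS⟩ : S) ∈ Subgroup.centralizer ({(⟨x, hxS⟩ : S)} : Set S) :=
    Subgroup.mem_centralizer_singleton_iff.2 (Subtype.ext hxz.symm)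
  have h3 : orderOf (⟨⟨z, hzS⟩, h2⟩ : ↥(Subgroup.centralizer ({(⟨x, hxS⟩ : S)} : Set S))) = t := by
    rw [← Subgroup.orderOf_coe, Subgroup.orderOf_mk, hz]
  have h4 : t ∣ Ph 12 q := by
    rw [← h3]
    exact (orderOf_dvd_natCard _).trans h1
  rw [← ncl12_eq] at h4
  exact ht12 (prim_of_dvd c12 hq1 ht h4)

theorem Prim.unique {q e e' r : ℕ} (h : Prim q e r) (h' : Prim q e' r) : e = e' :=
  Nat.dvd_antisymm ((h.dvd_iff e').1 (h'.dvd dvd_rfl)) ((h'.dvd_iff e).1 (h.dvd dvd_rfl))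

theorem prim_not_two {q e r : ℕ} (h : Prim q e r) (he : 2 ≤ e) : r ≠ 2 := by
  rintro rfl
  have := Fact.mk h.prime
  have h1 : (q : ZMod 2) ^ (2 - 1) = 1 := ZMod.pow_card_sub_one_eq_one (by
    rw [Ne, ZMod.natCast_eq_zero_iff]; exact h.not_dvd)
  have h2 := Nat.le_of_dvd (by norm_num) ((Cfsg.Agent.H56.Exc.prim_pow h _).1 h1)
  omega

/-- a prime of class 3 or 6 does not divide `8 (q⁴ + 1) (q² - 1)` -/
theorem not_dvd_M8 {q e t : ℕ} (h : Prim q e t) (he : e = 3 ∨ e = 6) : ¬ t ∣ 8 * (Ph 8 q * (q ^ 2 - 1)) := by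
  have h2 := prim_not_two h (by omega)
  have hq1 : 1 ≤ q := by
    by_contra hcon
    have h0 : q = 0 := by omega
    subst h0
    exact h.not_dvd (dvd_zero _)
  intro h1
  rcases h.prime.dvd_mul.1 h1 with h3 | h3
  · exact h2 ((Nat.prime_dvd_prime_iff_eq h.prime Nat.prime_two).1 (h.prime.dvd_of_dvd_pow (show t ∣ 2 ^ 3 from h3)))
  rcases h.prime.dvd_mul.1 h3 with h4 | h4
  · have h5 : t ∣ q ^ 8 - 1 := by
      refine h4.trans ((Ph_dvd c8 hq1))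
    rw [h.dvd_iff] at h5
    rcases he with rfl | rfl <;> norm_num at h5
  · rw [h.dvd_iff] at h4
    rcases he with rfl | rfl <;> norm_num at h4

/-- **`E₆(q)`, the classes 12, 8.** -/
theorem K128_E6 (tb : OrderTable.{0}) (hcyc : CycFixSolv.{0}) (hcf : CF) {F : Type} [Field F] [Fintype F]
    (B : Subgroup ↥(Lie.chevE6.group F)) (hoff : Off (Fintype.card F) [12, 8] B) {r t : ℕ}
    (hr : Prim (Fintype.card F) 12 r) (htt : Prim (Fintype.card F) 3 t) (hcom : @Com ↥B _ r t) : B = ⊤ := by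
  obtain ⟨p, f, _, hp, hf, hq⟩ := exists_pf F
  have := Fact.mk hp
  have hfin : Finite ↥(Lie.chevE6.group F) := inferInstance
  have hT := named_e6 (F := F) tb
  rw [hq] at hT hoff hr htt
  have hq2 : 2 ≤ p ^ f := hp.two_le.trans (Nat.le_self_pow (by omega) p)
  have hq1 : 1 ≤ p ^ f := by omega
  have hOL : num (.e6 (p ^ f)) = OL .E6 (p ^ f) := rfl
  have hdT : Nat.card ↥(Lie.chevE6.group F) ∣ OL .E6 (p ^ f) := by
    rw [← hOL, ← hT.eq]
    exact Dvd.intro_left _ rfl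
  have hmem : ∀ c ∈ [12, 8], c = 12 ∨ c = 8 := by decide
  have hcl : ∀ c ∈ [12, 8], Cls c := by
    intro c hc
    have := hmem c hc
    unfold Cls
    omega
  have h7 : ∀ c ∈ [12, 8], 7 ≤ c := by decide
  have hnum : ∀ c ∈ [12, 8], ncl c (p ^ f) ∣ num (.e6 (p ^ f)) := by
    intro c hc
    have h1 : ∀ d ∈ [2, 5, 6, 8, 9, 12], (p ^ f) ^ d - 1 ∣ num (.e6 (p ^ f)) := by
      intro d hd
      show _ ∣ (p ^ f) ^ 36 * (((p ^ f) ^ 2 - 1) * ((p ^ f) ^ 5 - 1) * ((p ^ f) ^ 6 - 1) *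
        ((p ^ f) ^ 8 - 1) * ((p ^ f) ^ 9 - 1) * ((p ^ f) ^ 12 - 1))
      refine Dvd.dvd.mul_left ?_ _
      have h1 := List.dvd_prod (List.mem_map_of_mem (f := fun d => (p ^ f) ^ d - 1) hd)
      simp only [List.map_cons, List.map_nil, List.prod_cons, List.prod_nil, mul_one] at h1
      simp only [mul_assoc]
      exact h1
    refine (ncl_dvd_Ph c _).trans ((Ph_dvd (hcl c hc) hq1).trans (h1 c ?_))
    rcases hmem c hc with rfl | rfl <;> decide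
  have hnT : ∀ c ∈ [12, 8], ncl c (p ^ f) ∣ Nat.card ↥(Lie.chevE6.group F) := fun c hc =>
    ncl_dvd_card (hcl c hc) (h7 c hc) hq2 (den_pos hT.cond)
      ((Nat.gcd_le_left _ (by norm_num)).trans (by norm_num)) hT.eq (hnum c hc)
  have h12 : M8E (p ^ f) 12 = Ph 12 (p ^ f) * ((p ^ f) ^ 2 + p ^ f + 1) := rfl
  have h8 : M8E (p ^ f) 8 = Ph 8 (p ^ f) * ((p ^ f) ^ 2 - 1) := rfl
  have hm12 : ((Ph 12 (p ^ f) * ((p ^ f) ^ 2 + p ^ f + 1) : ℕ) : ℤ) =
      (1 - ((p ^ f : ℕ) : ℤ) ^ 2 + ((p ^ f : ℕ) : ℤ) ^ 4) * (1 + ((p ^ f : ℕ) : ℤ) + ((p ^ f : ℕ) : ℤ) ^ 2) := by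
    rw [Nat.cast_mul, cast_Ph12 _ hq1]; push_cast; ring
  have hm8 : ((Ph 8 (p ^ f) * ((p ^ f) ^ 2 - 1) : ℕ) : ℤ) =
      (1 + ((p ^ f : ℕ) : ℤ) ^ 4) * (((p ^ f : ℕ) : ℤ) ^ 2 - 1) := by
    rw [Nat.cast_mul, cast_Ph8, cast_sub_one hq1]; ring
  have hbig : ∀ c ∈ [12, 8], ∀ r, Prim (p ^ f) c r → Big ↥(Lie.chevE6.group F) r (M8E (p ^ f) c) c := by
    intro c hc r hr
    rcases hmem c hc with rfl | rfl
    · exact big_E6_12 hq hm12 hr
    · exact big_E6_8 hq hm8 hr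
  have hM : ∀ c ∈ [12, 8], M8E (p ^ f) c ∣ (p ^ f) ^ c - 1 := by
    intro c hc
    rcases hmem c hc with rfl | rfl
    · refine dvd_of_cast (c := (((p ^ f : ℕ) : ℤ) ^ 2 + 1) * (((p ^ f : ℕ) : ℤ) ^ 2 - 1) * (((p ^ f : ℕ) : ℤ) ^ 2 - (p ^ f : ℕ) + 1)) ?_
      rw [h12, cast_sub_one hq1, hm12]
      ring
    · refine dvd_of_cast (c := (((p ^ f : ℕ) : ℤ) ^ 2 + 1)) ?_
      rw [h8, cast_sub_one hq1, hm8]
      ring
  obtain ⟨r₀, hr₀⟩ := exists_prim hq2 (show 3 ≤ 12 by norm_num) (by norm_num)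
  have hpiso : PIso p r₀ ↥(Lie.chevE6.group F) := piso_E6_12 (F := F) (by rw [hq]; exact hr₀)
  have ho12 : Ord ↥(Lie.chevE6.group F) (p ^ f) 12 (Ph 12 (p ^ f) * ((p ^ f) ^ 2 + p ^ f + 1)) :=
    fun r hr x hx => (big_E6_12 hq hm12 hr).card x hx
  have ho8 : Ord ↥(Lie.chevE6.group F) (p ^ f) 8 (Ph 8 (p ^ f) * ((p ^ f) ^ 2 - 1)) :=
    fun r hr x hx => (big_E6_8 hq hm8 hr).card x hx
  have hdB : Nat.card ↥B ∣ OL .E6 (p ^ f) := (Subgroup.card_subgroup_dvd_card B).trans hdT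
  obtain ⟨S, hSn, hSs, hSna, hnS, hidx, hbS, g, hg, hch⟩ := core_kill tb hcyc hcf tbl_E6_8 (fam := [12, 8])
    (fun c hc => hc) (M := M8E (p ^ f)) (E := fun c => c)
    (e := 12) (e' := 8) (by decide) (by decide) (dist_12_8 hq2) hcl h7 hp hf (F := F) fth_E6 hdT
    hbig hM
    (fun c hc s hs hd => le_seven' hs (n := c) (by have := hmem c hc; omega) hd)
    (by decide) hnT (c₀ := 12) (by decide) hr₀ hpiso hoff (fun t ht htp htn htB => by
      refine good_e6c (by norm_num) hq2 (ho12.sub B) ?_ (ho8.sub B) ?_ hdB ?_ ?_ ht ?_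
        (htn 12 (by decide)) (htn 8 (by decide)) htB
      · intro h3 r hr x hx h
        exact (exact_e6_12 hq h3 hr (x := (x : ↥(Lie.chevE6.group F))) (by rw [Subgroup.orderOf_coe]; exact hx)).2
          (h.trans (card_centralizer_sub B x))
      · intro r hr x hx
        exact ((hbig 8 (by decide) r hr).subgroup B).cyc x hx
      · exact hoff.ncl_dvd (by decide) c12 hq1 (hnT 12 (by decide))
      · exact hoff.ncl_dvd (by decide) c8 hq1 (hnT 8 (by decide))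
      · intro h
        exact htp ((Nat.prime_dvd_prime_iff_eq ht hp).1 (ht.dvd_of_dvd_pow h)))
  have hdS : Nat.card S ∣ num (.e6 (p ^ f)) := IsNamed.card_dvd hT S
  rcases charp_e6_812 hp hf hg.cond hch hg.eq hdS (fun s hs _ => (hbS 8 (by decide) s hs).2.2)
    (fun s hs _ => (hbS 12 (by decide) s hs).2.2) with rfl | rfl | rfl
  · exact eq_top_of_name hT hg
  · exfalso
    exact kill_f4 hg hr htt.prime (fun h => absurd (Prim.unique h htt) (by norm_num)) hcom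
      (hbS 12 (by decide) r hr).2.1 (hidx 8 (by decide)) (not_dvd_M8 htt (Or.inl rfl))
  · exfalso
    obtain ⟨s, hs⟩ := exists_prim (q := p ^ f) (e := 8) hq2 (by norm_num) (by omega)
    exact kill_psl3_big hp hf hg hs fun x hx => (hbS 8 (by decide) s hs).1.card x hx

/-- **`²E₆(q)`, `3 ≤ q`, the classes 12, 8.** -/
theorem K128_TE6 (tb : OrderTable.{0}) (hcyc : CycFixSolv.{0}) (hcf : CF) {F : Type} [Field F] [Fintype F] {q : ℕ}
    (hq : IsPrimePow q) (hK : Fintype.card F = q ^ 2) (hq3 : 3 ≤ q)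
    (B : Subgroup ↥(Lie.twistedE6 F q)) (hoff : Off q [12, 8] B) {r t : ℕ}
    (hr : Prim q 12 r) (htt : Prim q 6 t) (hcom : @Com ↥B _ r t) : B = ⊤ := by
  obtain ⟨p, f, _, hp, hf, rfl⟩ := exists_pf' hq hK
  have := Fact.mk hp
  have hfin : Finite ↥(Lie.twistedE6 F (p ^ f)) := inferInstance
  have hT := named_te6 (F := F) tb hq hK
  have hq2 : 2 ≤ p ^ f := hp.two_le.trans (Nat.le_self_pow (by omega) p)
  have hq1 : 1 ≤ p ^ f := by omega
  have hOL : num (.te6 (p ^ f)) = OL .TE6 (p ^ f) := rfl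
  have hdT : Nat.card ↥(Lie.twistedE6 F (p ^ f)) ∣ OL .TE6 (p ^ f) := by
    rw [← hOL, ← hT.eq]
    exact Dvd.intro_left _ rfl
  have hmem : ∀ c ∈ [12, 8], c = 12 ∨ c = 8 := by decide
  have hcl : ∀ c ∈ [12, 8], Cls c := by
    intro c hc
    have := hmem c hc
    unfold Cls
    omega
  have h7 : ∀ c ∈ [12, 8], 7 ≤ c := by decide
  have hnum : ∀ c ∈ [12, 8], ncl c (p ^ f) ∣ num (.te6 (p ^ f)) := by
    intro c hc
    have h1 : ∀ d ∈ [8, 12], (p ^ f) ^ d - 1 ∣ num (.te6 (p ^ f)) := by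
      intro d hd
      show _ ∣ (p ^ f) ^ 36 * (((p ^ f) ^ 2 - 1) * ((p ^ f) ^ 5 + 1) * ((p ^ f) ^ 6 - 1) *
        ((p ^ f) ^ 8 - 1) * ((p ^ f) ^ 9 + 1) * ((p ^ f) ^ 12 - 1))
      refine Dvd.dvd.mul_left ?_ _
      have hd' : d = 8 ∨ d = 12 := by simpa using hd
      rcases hd' with rfl | rfl
      · exact (Dvd.intro_left _ rfl).trans ((Dvd.intro _ rfl).trans (Dvd.intro _ rfl))
      · exact Dvd.intro_left _ rfl
    refine (ncl_dvd_Ph c _).trans ((Ph_dvd (hcl c hc) hq1).trans (h1 c ?_))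
    rcases hmem c hc with rfl | rfl <;> decide
  have hnT : ∀ c ∈ [12, 8], ncl c (p ^ f) ∣ Nat.card ↥(Lie.twistedE6 F (p ^ f)) := fun c hc =>
    ncl_dvd_card (hcl c hc) (h7 c hc) hq2 (den_pos hT.cond)
      ((Nat.gcd_le_left _ (by norm_num)).trans (by norm_num)) hT.eq (hnum c hc)
  have hle : p ^ f ≤ (p ^ f) ^ 2 := Nat.le_self_pow (by norm_num) _
  have h12 : M8T (p ^ f) 12 = Ph 12 (p ^ f) * ((p ^ f) ^ 2 - p ^ f + 1) := rfl
  have h8 : M8T (p ^ f) 8 = Ph 8 (p ^ f) * ((p ^ f) ^ 2 - 1) := rfl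
  have hm12 : ((Ph 12 (p ^ f) * ((p ^ f) ^ 2 - p ^ f + 1) : ℕ) : ℤ) =
      (1 - ((p ^ f : ℕ) : ℤ) ^ 2 + ((p ^ f : ℕ) : ℤ) ^ 4) * (1 - ((p ^ f : ℕ) : ℤ) + ((p ^ f : ℕ) : ℤ) ^ 2) := by
    rw [Nat.cast_mul, cast_Ph12 _ hq1, Nat.cast_add, Nat.cast_sub hle]; push_cast; ring
  have hm8 : ((Ph 8 (p ^ f) * ((p ^ f) ^ 2 - 1) : ℕ) : ℤ) =
      (1 + ((p ^ f : ℕ) : ℤ) ^ 4) * (((p ^ f : ℕ) : ℤ) ^ 2 - 1) := by
    rw [Nat.cast_mul, cast_Ph8, cast_sub_one hq1]; ring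
  have hbig : ∀ c ∈ [12, 8], ∀ r, Prim (p ^ f) c r → Big ↥(Lie.twistedE6 F (p ^ f)) r (M8T (p ^ f) c) c := by
    intro c hc r hr
    rcases hmem c hc with rfl | rfl
    · exact big_TE6_12 hq hK hm12 hr
    · exact big_TE6_8 hq hK hm8 hr
  have hM : ∀ c ∈ [12, 8], M8T (p ^ f) c ∣ (p ^ f) ^ c - 1 := by
    intro c hc
    rcases hmem c hc with rfl | rfl
    · refine dvd_of_cast (c := (((p ^ f : ℕ) : ℤ) ^ 2 + 1) * (((p ^ f : ℕ) : ℤ) ^ 2 - 1) * (((p ^ f : ℕ) : ℤ) ^ 2 + (p ^ f : ℕ) + 1)) ?_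
      rw [h12, cast_sub_one hq1, hm12]
      ring
    · refine dvd_of_cast (c := (((p ^ f : ℕ) : ℤ) ^ 2 + 1)) ?_
      rw [h8, cast_sub_one hq1, hm8]
      ring
  obtain ⟨r₀, hr₀⟩ := exists_prim hq2 (show 3 ≤ 12 by norm_num) (by norm_num)
  have hpiso : PIso p r₀ ↥(Lie.twistedE6 F (p ^ f)) := piso_twE6 hq hK (Or.inl rfl) hr₀
  have ho12 : Ord ↥(Lie.twistedE6 F (p ^ f)) (p ^ f) 12 (Ph 12 (p ^ f) * ((p ^ f) ^ 2 - p ^ f + 1)) :=
    fun r hr x hx => (big_TE6_12 hq hK hm12 hr).card x hx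
  have ho8 : Ord ↥(Lie.twistedE6 F (p ^ f)) (p ^ f) 8 (Ph 8 (p ^ f) * ((p ^ f) ^ 2 - 1)) :=
    fun r hr x hx => (big_TE6_8 hq hK hm8 hr).card x hx
  have hdB : Nat.card ↥B ∣ OL .TE6 (p ^ f) := (Subgroup.card_subgroup_dvd_card B).trans hdT
  obtain ⟨S, hSn, hSs, hSna, hnS, hidx, hbS, g, hg, hch⟩ := core_kill tb hcyc hcf tbl_TE6_8 (fam := [12, 8])
    (fun c hc => hc) (M := M8T (p ^ f)) (E := fun c => c)
    (e := 12) (e' := 8) (by decide) (by decide) (dist_12_8 hq2) hcl h7 hp hf (F := F) (fth_TE6 _) hdT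
    hbig hM
    (fun c hc s hs hd => le_seven' hs (n := c) (by have := hmem c hc; omega) hd)
    (by decide) hnT (c₀ := 12) (by decide) hr₀ hpiso hoff (fun t ht htp htn htB => by
      refine good_te6c (by norm_num) hq3 (ho12.sub B) ?_ (ho8.sub B) ?_ hdB ?_ ?_ ht ?_
        (htn 12 (by decide)) (htn 8 (by decide)) htB
      · intro h3 r hr x hx h
        exact (exact_te6_12 hq hK h3 hr (x := (x : ↥(Lie.twistedE6 F (p ^ f))))
          (by rw [Subgroup.orderOf_coe]; exact hx)).2 (h.trans (card_centralizer_sub B x))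
      · intro r hr x hx
        exact ((hbig 8 (by decide) r hr).subgroup B).cyc x hx
      · exact hoff.ncl_dvd (by decide) c12 hq1 (hnT 12 (by decide))
      · exact hoff.ncl_dvd (by decide) c8 hq1 (hnT 8 (by decide))
      · intro h
        exact htp ((Nat.prime_dvd_prime_iff_eq ht hp).1 (ht.dvd_of_dvd_pow h)))
  have hdS : Nat.card S ∣ num (.te6 (p ^ f)) := IsNamed.card_dvd hT S
  rcases charp_te6_812 hp hf hg.cond hch hg.eq hdS (fun s hs _ => (hbS 8 (by decide) s hs).2.2)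
    (fun s hs _ => (hbS 12 (by decide) s hs).2.2) with rfl | rfl | rfl
  · exact eq_top_of_name hT hg
  · exfalso
    exact kill_f4 hg hr htt.prime (fun h => absurd (Prim.unique h htt) (by norm_num)) hcom
      (hbS 12 (by decide) r hr).2.1 (hidx 8 (by decide)) (not_dvd_M8 htt (Or.inr rfl))
  · exfalso
    obtain ⟨s, hs⟩ := exists_prim (q := p ^ f) (e := 8) hq2 (by norm_num) (by omega)
    exact kill_psl3_big hp hf hg hs fun x hx => (hbS 8 (by decide) s hs).1.card x hx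

end Cfsg.Agent.H190.Cov
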