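import Cfsg.Agent.H190.Cov.Pre
import Cfsg.Agent.H325.Same.ExcPair
import Cfsg.Agent.H190.Odd.Big8
import Cfsg.Agent.H190.Odd.K8E6
import Cfsg.Agent.H563.KG.KTE6

/-!
# Subgroups of `E₆(q)` and `²E₆(q)` of index prime to the classes 9, 8 (18, 8) (S2499)

* `K98_E6` : a subgroup of `E₆(q)` whose index is divisible by no primitive prime divisor of `q^9 - 1`, `q^8 - 1` is
  the whole group;
* `K188_TE6` : a subgroup of `²E₆(q)`, `q ≥ 3`, whose index is divisible by no primitive prime divisor of `q^18 - 1`,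
  `q^8 - 1` is the whole group.
-/

set_option autoImplicit false

namespace Cfsg.Agent.H190.Cov

open Cfsg Cfsg.Agent.OrdDiv Cfsg.Agent.H436 Cfsg.Agent.H902 Cfsg.Agent.H290.ElReg Cfsg.Agent.H290.ElTab
  Cfsg.Agent.H56.Exc Cfsg.Agent.H325.Loc Cfsg.Agent.H915.GN Cfsg.Agent.H264.FKS Cfsg.Agent.H325.Same Cfsg.Agent.H325.IsoExc
  Cfsg.Agent.H325.IsoFree Cfsg.Agent.H563.KG Cfsg.Agent.H190.Odd

theorem svR_E6_98 : svR 78 .E6 [9, 8] = true := by decide +kernel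
theorem svS_E6_98 : svS .E6 [9, 8] = true := by decide +kernel
theorem svR_TE6_188 : svR 78 .TE6 [18, 8] = true := by decide +kernel
theorem svS3_TE6_188 : svS3 .TE6 [18, 8] = true := by decide +kernel

theorem tbl_E6_98 : Tbl 78 .E6 [9, 8] 9 where
  hn := by norm_num
  hb := bndR_78_9
  hs := svR_E6_98
  hbS := bndS_9
  hsS := svS_E6_98
  he₀ := c9
  hmem := by decide
  hle := fun _ h => (le_four9 h).trans (by norm_num)

theorem dist_9_8 {q : ℕ} (hq : 2 ≤ q) : ncl 9 q + 4 ≤ ncl 8 q ∨ ncl 8 q + 4 ≤ ncl 9 q := by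
  right
  have e1 : cc 9 = 3 := rfl
  have p1 : Ph 8 q = q ^ 4 + 1 := rfl
  have p2 : Ph 9 q = q ^ 6 + q ^ 3 + 1 := rfl
  have h8 := ncl_le 8 (show 1 ≤ q by omega)
  obtain ⟨k, rfl⟩ := Nat.exists_eq_add_of_le' hq
  have a2 : 3 * ((k + 2) ^ 4 + 1 + 4) ≤ (k + 2) ^ 6 + (k + 2) ^ 3 + 1 := by ring_nf; omega
  rw [p1] at h8
  rcases ncl_or (e := 9) (q := k + 2) (by norm_num [cc]) with h1 | h1 <;>
    rw [p2] at h1 <;> (try rw [e1] at h1) <;> omega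

theorem dist_18_8 {q : ℕ} (hq : 3 ≤ q) : ncl 18 q + 4 ≤ ncl 8 q ∨ ncl 8 q + 4 ≤ ncl 18 q := by
  right
  have e1 : cc 18 = 3 := rfl
  have p1 : Ph 8 q = q ^ 4 + 1 := rfl
  have p2 : Ph 18 q = (q ^ 6 + 1) - q ^ 3 := rfl
  have h8 := ncl_le 8 (show 1 ≤ q by omega)
  obtain ⟨k, rfl⟩ := Nat.exists_eq_add_of_le' hq
  have a0 : (k + 3) ^ 3 ≤ (k + 3) ^ 6 := Nat.pow_le_pow_right (by omega) (by norm_num)
  have a2 : 3 * ((k + 3) ^ 4 + 1 + 4) + (k + 3) ^ 3 ≤ (k + 3) ^ 6 + 1 := by ring_nf; omega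
  rw [p1] at h8
  rcases ncl_or (e := 18) (q := k + 3) (by norm_num [cc]) with h1 | h1 <;>
    rw [p2] at h1 <;> (try rw [e1] at h1) <;> omega

/-- **`E₆(q)`, the classes 9, 8.** -/
theorem good_E6_98 {G : Type*} [Group G] [Finite G] {q n : ℕ} (hn : n ≤ 78) (hq : 2 ≤ q) (h9 : Ord G q 9 (ncl 9 q))
    (h8 : Ord G q 8 (Ph 8 q * (q ^ 2 - 1))) (hd : Nat.card G ∣ OL .E6 q)
    (g9 : ncl 9 q ∣ Nat.card G) (g8 : ncl 8 q ∣ Nat.card G)
    {t : ℕ} (ht : t.Prime) (ht9 : ¬ Prim q 9 t) (ht8 : ¬ Prim q 8 t) : Good G n t := by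
  have hq1 : 1 ≤ q := by omega
  have h1 := not_dvd_of_not_prim c9 hq1 ht ht9
  rcases eq_or_lt_of_le hq with rfl | hq3
  · by_cases h7 : t = 3
    · subst h7
      refine good_pr h9 c9 hq1 ht h1 (by decide +kernel) g9 ?_
      intro k hk hkG
      have h2 : k ≤ 6 := pow_bound (M := OL .E6 2) (by decide +kernel) (hkG.trans hd)
      have h3 : ncl 9 2 = 73 := by decide +kernel
      rw [h3]
      interval_cases k <;> norm_num
    · refine good_two h9 h8 c9 c8 (by norm_num) hq1 ht h1 ?_ (lt_of_le_of_lt hn (by decide +kernel)) g9 g8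
      intro h2
      rcases ht.dvd_mul.1 h2 with h3 | h3
      · have h4 : ncl 8 2 = Ph 8 2 := by decide +kernel
        exact not_dvd_of_not_prim c8 hq1 ht ht8 (h4 ▸ h3)
      · have h4 : (2 ^ 2 - 1 : ℕ) = 3 := by norm_num
        rw [h4] at h3
        exact h7 ((Nat.prime_dvd_prime_iff_eq ht (by norm_num)).1 h3)
  · exact good_one h9 c9 hq1 ht h1 (by have := ncl9_gt hq3; omega) g9

/-- the orders of the tori of `E₆(q)` of the classes 9, 8 -/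
def M98 (q c : ℕ) : ℕ := if c = 9 then Ph 9 q else Ph 8 q * (q ^ 2 - 1)

/-- the orders of the tori of `²E₆(q)` of the classes 18, 8 -/
def M188 (q c : ℕ) : ℕ := if c = 18 then Ph 18 q else Ph 8 q * (q ^ 2 - 1)

/-- the automizers in `²E₆(q)` of the classes 18, 8 -/
def E188 (c : ℕ) : ℕ := if c = 18 then 9 else 8

theorem le_seven'' {s : ℕ} (hs : s.Prime) {n : ℕ} (hn : n = 9 ∨ n = 8) (h : s ∣ n) : s ≤ 7 := by
  rcases hn with rfl | rfl
  · exact (Nat.le_of_dvd (by norm_num) (hs.dvd_of_dvd_pow (show s ∣ 3 ^ 2 from h))).trans (by norm_num)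
  · exact (Nat.le_of_dvd (by norm_num) (hs.dvd_of_dvd_pow (show s ∣ 2 ^ 3 from h))).trans (by norm_num)

/-- **`E₆(q)`, the classes 9, 8.** -/
theorem K98_E6 (tb : OrderTable.{0}) (hcyc : CycFixSolv.{0}) (hcf : CF) {F : Type} [Field F] [Fintype F]
    (B : Subgroup ↥(Lie.chevE6.group F)) (hoff : Off (Fintype.card F) [9, 8] B) : B = ⊤ := by
  obtain ⟨p, f, _, hp, hf, hq⟩ := exists_pf F
  have := Fact.mk hp
  have hfin : Finite ↥(Lie.chevE6.group F) := inferInstance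
  have hT := named_e6 (F := F) tb
  rw [hq] at hT hoff
  have hq2 : 2 ≤ p ^ f := hp.two_le.trans (Nat.le_self_pow (by omega) p)
  have hq1 : 1 ≤ p ^ f := by omega
  have hOL : num (.e6 (p ^ f)) = OL .E6 (p ^ f) := rfl
  have hdT : Nat.card ↥(Lie.chevE6.group F) ∣ OL .E6 (p ^ f) := by
    rw [← hOL, ← hT.eq]
    exact Dvd.intro_left _ rfl
  have hmem : ∀ c ∈ [9, 8], c = 9 ∨ c = 8 := by decide
  have hcl : ∀ c ∈ [9, 8], Cls c := by
    intro c hc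
    have := hmem c hc
    unfold Cls
    omega
  have h7 : ∀ c ∈ [9, 8], 7 ≤ c := by decide
  have hnum : ∀ c ∈ [9, 8], ncl c (p ^ f) ∣ num (.e6 (p ^ f)) := by
    intro c hc
    have h1 : ∀ d ∈ [2, 5, 6, 8, 9, 12], (p ^ f) ^ d - 1 ∣ num (.e6 (p ^ f)) := by
      intro d hd
      show _ ∣ (p ^ f) ^ 36 * (((p ^ f) ^ 2 - 1) * ((p ^ f) ^ 5 - 1) * ((p ^ f) ^ 6 - 1) *
        ((p ^ f) ^ 8 - 1) * ((p ^ f) ^ 9 - 1) * ((p ^ f) ^ 12 - 1))
      refine Dvd.dvd.mul_left ?_ _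
      have h1 := List.dvd_prod (List.mem_map_of_mem (f := fun d => (p ^ f) ^ d - 1) hd)
      simp only [List.map_cons, List.map_nil, List.prod_cons, List.prod_nil, mul_one] at h1
      simp only [mul_assoc]
      exact h1
    refine (ncl_dvd_Ph c _).trans ((Ph_dvd (hcl c hc) hq1).trans (h1 c ?_))
    rcases hmem c hc with rfl | rfl <;> decide
  have hnT : ∀ c ∈ [9, 8], ncl c (p ^ f) ∣ Nat.card ↥(Lie.chevE6.group F) := fun c hc =>
    ncl_dvd_card (hcl c hc) (h7 c hc) hq2 (den_pos hT.cond)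
      ((Nat.gcd_le_left _ (by norm_num)).trans (by norm_num)) hT.eq (hnum c hc)
  have h9 : M98 (p ^ f) 9 = Ph 9 (p ^ f) := rfl
  have h8 : M98 (p ^ f) 8 = Ph 8 (p ^ f) * ((p ^ f) ^ 2 - 1) := rfl
  have hm9 : ((Ph 9 (p ^ f) : ℕ) : ℤ) = 1 + ((p ^ f : ℕ) : ℤ) ^ 3 + ((p ^ f : ℕ) : ℤ) ^ 6 := by
    rw [cast_Ph9]; ring
  have hm8 : ((Ph 8 (p ^ f) * ((p ^ f) ^ 2 - 1) : ℕ) : ℤ) =
      (1 + ((p ^ f : ℕ) : ℤ) ^ 4) * (((p ^ f : ℕ) : ℤ) ^ 2 - 1) := by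
    rw [Nat.cast_mul, cast_Ph8, cast_sub_one hq1]; ring
  have hbig : ∀ c ∈ [9, 8], ∀ r, Prim (p ^ f) c r → Big ↥(Lie.chevE6.group F) r (M98 (p ^ f) c) c := by
    intro c hc r hr
    rcases hmem c hc with rfl | rfl
    · exact big_E6_9 hq hm9 hr
    · exact big_E6_8 hq hm8 hr
  have hM : ∀ c ∈ [9, 8], M98 (p ^ f) c ∣ (p ^ f) ^ c - 1 := by
    intro c hc
    rcases hmem c hc with rfl | rfl
    · exact Ph_dvd c9 hq1
    · refine dvd_of_cast (c := (((p ^ f : ℕ) : ℤ) ^ 2 + 1)) ?_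
      rw [h8, cast_sub_one hq1, hm8]
      ring
  obtain ⟨r₀, hr₀⟩ := exists_prim hq2 (show 3 ≤ 9 by norm_num) (by norm_num)
  have hpiso : PIso p r₀ ↥(Lie.chevE6.group F) := piso_E6 (F := F) (by rw [hq]; exact hr₀)
  have ho9 : Ord ↥(Lie.chevE6.group F) (p ^ f) 9 (ncl 9 (p ^ f)) := by
    intro r hr x hx
    rw [← ncl9_eq hq1]
    exact (Cfsg.Agent.H190.Exc.e6_9 hq hr).2 x hx
  have ho8 : Ord ↥(Lie.chevE6.group F) (p ^ f) 8 (Ph 8 (p ^ f) * ((p ^ f) ^ 2 - 1)) :=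
    fun r hr x hx => (big_E6_8 hq hm8 hr).card x hx
  have hdB : Nat.card ↥B ∣ OL .E6 (p ^ f) := (Subgroup.card_subgroup_dvd_card B).trans hdT
  obtain ⟨S, hSn, hSs, hSna, hnS, hidx, hbS, g, hg, hch⟩ := core tb hcyc hcf tbl_E6_98 (fam := [9, 8])
    (fun c hc => hc) (M := M98 (p ^ f)) (E := fun c => c)
    (e := 9) (e' := 8) (by decide) (by decide) (dist_9_8 hq2) hcl h7 hp hf (F := F) fth_E6 hdT
    hbig hM
    (fun c hc s hs hd => le_seven'' hs (hmem c hc) hd)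
    (by decide) hnT (c₀ := 9) (by decide) hr₀ hpiso hoff (fun t ht htp htn htB => by
      refine good_E6_98 (by norm_num) hq2 (ho9.sub B) (ho8.sub B) hdB ?_ ?_ ht
        (htn 9 (by decide)) (htn 8 (by decide))
      · exact hoff.ncl_dvd (by decide) c9 hq1 (hnT 9 (by decide))
      · exact hoff.ncl_dvd (by decide) c8 hq1 (hnT 8 (by decide)))
  have hdS : Nat.card S ∣ num (.e6 (p ^ f)) := IsNamed.card_dvd hT S
  obtain rfl := charp_e6_89 hp hf hg.cond hch hg.eq hdS (fun s hs _ => (hbS 8 (by decide) s hs).2.2)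
    (fun s hs _ => (hbS 9 (by decide) s hs).2.2)
  exact eq_top_of_name hT hg

/-- **`²E₆(q)`, `3 ≤ q`, the classes 18, 8.** -/
theorem K188_TE6 (tb : OrderTable.{0}) (hcyc : CycFixSolv.{0}) (hcf : CF) {F : Type} [Field F] [Fintype F] {q : ℕ}
    (hq : IsPrimePow q) (hK : Fintype.card F = q ^ 2) (hq3 : 3 ≤ q)
    (B : Subgroup ↥(Lie.twistedE6 F q)) (hoff : Off q [18, 8] B) : B = ⊤ := by
  obtain ⟨p, f, _, hp, hf, rfl⟩ := exists_pf' hq hK
  have := Fact.mk hp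
  have hfin : Finite ↥(Lie.twistedE6 F (p ^ f)) := inferInstance
  have hT := named_te6 (F := F) tb hq hK
  have hq2 : 2 ≤ p ^ f := hp.two_le.trans (Nat.le_self_pow (by omega) p)
  have hq1 : 1 ≤ p ^ f := by omega
  have hOL : num (.te6 (p ^ f)) = OL .TE6 (p ^ f) := rfl
  have hdT : Nat.card ↥(Lie.twistedE6 F (p ^ f)) ∣ OL .TE6 (p ^ f) := by
    rw [← hOL, ← hT.eq]
    exact Dvd.intro_left _ rfl
  have hmem : ∀ c ∈ [18, 8], c = 18 ∨ c = 8 := by decide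
  have hcl : ∀ c ∈ [18, 8], Cls c := by
    intro c hc
    have := hmem c hc
    unfold Cls
    omega
  have h7 : ∀ c ∈ [18, 8], 7 ≤ c := by decide
  have hnum : ∀ c ∈ [18, 8], ncl c (p ^ f) ∣ num (.te6 (p ^ f)) := by
    intro c hc
    have h1 : Ph c (p ^ f) ∣ num (.te6 (p ^ f)) := by
      show _ ∣ (p ^ f) ^ 36 * (((p ^ f) ^ 2 - 1) * ((p ^ f) ^ 5 + 1) * ((p ^ f) ^ 6 - 1) *
        ((p ^ f) ^ 8 - 1) * ((p ^ f) ^ 9 + 1) * ((p ^ f) ^ 12 - 1))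
      refine Dvd.dvd.mul_left ?_ _
      rcases hmem c hc with rfl | rfl
      · exact (Ph18_dvd hq1).trans ((Dvd.intro_left _ rfl).trans (Dvd.intro _ rfl))
      · exact (Ph_dvd c8 hq1).trans ((Dvd.intro_left _ rfl).trans ((Dvd.intro _ rfl).trans (Dvd.intro _ rfl)))
    exact (ncl_dvd_Ph c _).trans h1
  have hnT : ∀ c ∈ [18, 8], ncl c (p ^ f) ∣ Nat.card ↥(Lie.twistedE6 F (p ^ f)) := fun c hc =>
    ncl_dvd_card (hcl c hc) (h7 c hc) hq2 (den_pos hT.cond)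
      ((Nat.gcd_le_left _ (by norm_num)).trans (by norm_num)) hT.eq (hnum c hc)
  have h18 : M188 (p ^ f) 18 = Ph 18 (p ^ f) := rfl
  have h8 : M188 (p ^ f) 8 = Ph 8 (p ^ f) * ((p ^ f) ^ 2 - 1) := rfl
  have hm18 : ((Ph 18 (p ^ f) : ℕ) : ℤ) = 1 - ((p ^ f : ℕ) : ℤ) ^ 3 + ((p ^ f : ℕ) : ℤ) ^ 6 := by
    rw [cast_Ph18 _ hq1]; ring
  have hm8 : ((Ph 8 (p ^ f) * ((p ^ f) ^ 2 - 1) : ℕ) : ℤ) =
      (1 + ((p ^ f : ℕ) : ℤ) ^ 4) * (((p ^ f : ℕ) : ℤ) ^ 2 - 1) := by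
    rw [Nat.cast_mul, cast_Ph8, cast_sub_one hq1]; ring
  have hbig : ∀ c ∈ [18, 8], ∀ r, Prim (p ^ f) c r → Big ↥(Lie.twistedE6 F (p ^ f)) r (M188 (p ^ f) c) (E188 c) := by
    intro c hc r hr
    rcases hmem c hc with rfl | rfl
    · exact big_TE6_18 hq hK hm18 hr
    · exact big_TE6_8 hq hK hm8 hr
  have hM : ∀ c ∈ [18, 8], M188 (p ^ f) c ∣ (p ^ f) ^ c - 1 := by
    intro c hc
    rcases hmem c hc with rfl | rfl
    · exact Ph_dvd c18 hq1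
    · refine dvd_of_cast (c := (((p ^ f : ℕ) : ℤ) ^ 2 + 1)) ?_
      rw [h8, cast_sub_one hq1, hm8]
      ring
  obtain ⟨r₀, hr₀⟩ := exists_prim hq2 (show 3 ≤ 18 by norm_num) (by norm_num)
  have hpiso : PIso p r₀ ↥(Lie.twistedE6 F (p ^ f)) := piso_twE6 hq hK (Or.inr rfl) hr₀
  have ho18 : Ord ↥(Lie.twistedE6 F (p ^ f)) (p ^ f) 18 (ncl 18 (p ^ f)) := by
    intro r hr x hx
    rw [← ncl18_eq hq1]
    exact (Cfsg.Agent.H190.Exc.te6_18 hq hK hr).2 x hx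
  have hdB : Nat.card ↥B ∣ OL .TE6 (p ^ f) := (Subgroup.card_subgroup_dvd_card B).trans hdT
  obtain ⟨S, hSn, hSs, hSna, hnS, hidx, hbS⟩ := core_pre (n := 78) hcyc (fam := [18, 8])
    (M := M188 (p ^ f)) (E := E188) hcl h7 hp hf (F := F) (fth_TE6 _)
    hbig hM
    (fun c hc s hs hd => le_seven'' hs (n := E188 c) (by unfold E188; split <;> omega) hd)
    (by decide) hnT (c₀ := 18) (by decide) hr₀ hpiso hoff (fun t ht htp htn htB => by
      left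
      refine good_one (ho18.sub B) c18 hq1 ht (not_dvd_of_not_prim c18 hq1 ht (htn 18 (by decide))) ?_ ?_
      · have := ncl18_gt hq3
        omega
      · exact hoff.ncl_dvd (by decide) c18 hq1 (hnT 18 (by decide)))
  have hdS : Nat.card S ∣ num (.te6 (p ^ f)) := IsNamed.card_dvd hT S
  obtain ⟨g, hg, hch⟩ := exists_name_sp tb (n := 78) (Y := .TE6) (e₀ := 18) (cls := [18, 8]) (p := p) (f := f) (by norm_num)
    bndR_78_18 svR_TE6_188 (no_spor3 bndS_18 svS3_TE6_188 c18 (by decide)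
      (fun _ h => (le_four18 h).trans (by norm_num)) hp hf hq3) c18 (by decide)
    (fun _ h => (le_four18 h).trans (by norm_num)) hp hf (F := F) hSna (hcf S)
    (((fth_TE6 (F := F) (p ^ f)).sub B.subtype B.subtype_injective).sub S.subtype S.subtype_injective)
    hnS hdS (e := 18) (e' := 8) (by decide) (by decide) c18 c8 (by norm_num) (by norm_num) (dist_18_8 hq3) (by
      rintro r (h | h) x hx
      · exact (hbS 18 (by decide) r h).1.cyc x hx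
      · exact (hbS 8 (by decide) r h).1.cyc x hx)
  obtain rfl := charp_te6_818 hp hf hg.cond hch hg.eq hdS (fun s hs _ => (hbS 8 (by decide) s hs).2.2)
    (fun s hs _ => (hbS 18 (by decide) s hs).2.2)
  exact eq_top_of_name hT hg

end Cfsg.Agent.H190.Cov
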