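import Cfsg.Agent.H190.Odd.CoreKill
import Cfsg.Agent.H563.KG.KE6

/-!
# The simple normal subgroup and its name, separately (S2499, variant of `H563.KG.Core`)

* `core_pre` : `H190.Odd.core_kill` without the name;
* `exists_name_sp` : `H563.KG.exists_name` where the sporadic groups are excluded by a hypothesis;
* `no_spor3` : the sporadic groups for `3 ≤ q`.
-/

set_option autoImplicit false

namespace Cfsg.Agent.H190.Cov

open Cfsg Cfsg.Agent.OrdDiv Cfsg.Agent.H436 Cfsg.Agent.H902 Cfsg.Agent.H902.Names Cfsg.Agent.H915.GN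
  Cfsg.Agent.H290.ElReg Cfsg.Agent.H290.ElTab Cfsg.Agent.H290.ElCross Cfsg.Agent.H264.FKS Cfsg.Agent.H56.Exc
  Cfsg.Agent.H325.Loc Cfsg.Agent.H563.KG
  Cfsg.Agent.H190.Odd

variable {n : ℕ} {Y : Art.Sh} {cls fam : List ℕ} {e₀ p f : ℕ} {M E : ℕ → ℕ}

/-- **The simple normal subgroup**, without its name. -/
theorem core_pre (hcyc : CycFixSolv.{0})
    (hcl : ∀ c ∈ fam, Cls c) (h7 : ∀ c ∈ fam, 7 ≤ c)
    (hp : p.Prime) (hf : 1 ≤ f) {F : Type} [Field F] [CharP F p]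
    {T : Type} [Group T] [Finite T] (hrep : Fth n F T)
    (hbig : ∀ c ∈ fam, ∀ r, Prim (p ^ f) c r → Big T r (M c) (E c)) (hM : ∀ c ∈ fam, M c ∣ (p ^ f) ^ c - 1)
    (hE : ∀ c ∈ fam, ∀ s, s.Prime → s ∣ E c → s ≤ 7) (hsep : ∀ c ∈ fam, ∃ c' ∈ fam, ¬ c' ∣ c)
    (hnT : ∀ c ∈ fam, ncl c (p ^ f) ∣ Nat.card T)
    {c₀ r₀ : ℕ} (hc₀ : c₀ ∈ fam) (hr₀ : Prim (p ^ f) c₀ r₀) (hpiso : PIso p r₀ T)
    {B : Subgroup T} (hoff : Off (p ^ f) fam B)
    (hgood : ∀ t : ℕ, t.Prime → t ≠ p → (∀ c ∈ fam, ¬ Prim (p ^ f) c t) → t ∣ Nat.card B → Good B n t ∨ KillB B t) :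
    ∃ (S : Subgroup B) (_ : S.Normal) (_ : IsSimpleGroup S), ¬ IsMulCommutative S ∧
      (∀ c ∈ fam, ncl c (p ^ f) ∣ Nat.card S) ∧ (∀ c ∈ fam, S.index ∣ E c * M c) ∧
      (∀ c ∈ fam, ∀ r, Prim (p ^ f) c r → Big S r (M c) (E c) ∧ ¬ r ∣ S.index ∧ r ∣ Nat.card S) := by
  have := Fact.mk hp
  have hq2 : 2 ≤ p ^ f := hp.two_le.trans (Nat.le_self_pow (by omega) p)
  have hq1 : 1 ≤ p ^ f := by omega
  have hrf := rfam_of hp hf hcl h7 hbig hM hE hsep hnT hoff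
  obtain ⟨τ, hτ⟩ := hrep.sub B.subtype B.subtype_injective
  have hr₀B : r₀ ∣ Nat.card B :=
    (dvd_ncl (hcl c₀ hc₀) hq1 hr₀).trans (hoff.ncl_dvd hc₀ (hcl c₀ hc₀) hq1 (hnT c₀ hc₀))
  have hred : Red ↥B (Pr (Fm (p ^ f) fam M E)) := by
    refine red_kill (p := p) hcyc (fun A hA hAp => pcore_of_piso (hpiso.sub B) hr₀B A hA hAp)
      (pr_fm.2 ⟨c₀, hc₀, hr₀⟩) hr₀.prime hr₀B
      (fun x hx => ((hbig c₀ hc₀ r₀ hr₀).subgroup B).cyc x hx) fun t ht htp htn htB => ?_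
    rcases hgood t ht htp (fun c hc h => htn (pr_fm.2 ⟨c, hc, h⟩)) htB with h | h
    · exact Good.kill hτ h ht htp (by rw [Fintype.card_fin])
    · exact h
  obtain ⟨S, hSn, hSs, hSna, hS⟩ :=
    hrf.exists_full hcyc hred (r₁ := r₀) (m₁ := M c₀) (e₁ := E c₀) ⟨c₀, hc₀, hr₀, rfl, rfl⟩
  have hall : ∀ c ∈ fam, ∀ r, Prim (p ^ f) c r →
      Big S r (M c) (E c) ∧ r ∣ Nat.card S ∧ ¬ r ∣ S.index ∧ S.index ∣ E c * M c :=
    fun c hc r h => hS r (M c) (E c) ⟨c, hc, h, rfl, rfl⟩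
  refine ⟨S, hSn, hSs, hSna, fun c hc => ?_, fun c hc => ?_, fun c hc r h => ⟨(hall c hc r h).1,
    (hall c hc r h).2.2.1, (hall c hc r h).2.1⟩⟩
  · have h1 := hoff.ncl_dvd hc (hcl c hc) hq1 (hnT c hc)
    rw [← S.index_mul_card] at h1
    exact (coprime_of_prim (hcl c hc) hq1 fun r h => (hall c hc r h).2.2.1).dvd_of_dvd_mul_left h1
  · obtain ⟨r, hr⟩ := exists_prim hq2 (show 3 ≤ c by have := h7 c hc; omega) (by have := h7 c hc; omega)
    exact (hall c hc r hr).2.2.2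

/-- the condition excluding the sporadic groups -/
def NoSp (Y : Art.Sh) (cls : List ℕ) (q : ℕ) : Prop :=
  ∀ x ∈ Cfsg.Agent.OrdDiv.spor, (∀ e ∈ cls, ncl e q ∣ x.2) → ¬ x.2 ∣ OL Y q

/-- **The name.** -/
theorem exists_name_sp (tb : OrderTable.{0}) (hn : n ≤ 248) (hb : bndR n e₀ = true) (hs : svR n Y cls = true)
    (hsp : NoSp Y cls (p ^ f)) (he₀ : Cls e₀) (hmem : e₀ ∈ cls) (hle : ∀ q, ncl e₀ q ≤ 2701 → q ≤ 7)
    (hp : p.Prime) (hf : 1 ≤ f) {F : Type} [Field F] [CharP F p] {S : Type} [Group S] [Finite S] [IsSimpleGroup S]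
    (hna : ¬ IsMulCommutative S) (hK : IsKnownSimple' S) (hrep : Fth n F S)
    (hcls : ∀ e ∈ cls, ncl e (p ^ f) ∣ Nat.card S) (hd : Nat.card S ∣ OL Y (p ^ f))
    {e e' : ℕ} (he : e ∈ cls) (he' : e' ∈ cls) (hcl : Cls e) (hcl' : Cls e') (he7 : 7 ≤ e) (he7' : 7 ≤ e')
    (hd4 : ncl e (p ^ f) + 4 ≤ ncl e' (p ^ f) ∨ ncl e' (p ^ f) + 4 ≤ ncl e (p ^ f))
    (hcyc : ∀ r, Prim (p ^ f) e r ∨ Prim (p ^ f) e' r → ∀ x : S, orderOf x = r → IsCyclic ↥(Subgroup.centralizer {x})) :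
    ∃ g, IsNamed g S ∧ HasChar p g := by
  have hna' : ¬ ∀ a b : S, a * b = b * a := fun h => hna ⟨⟨h⟩⟩
  have hq : 2 ≤ p ^ f := hp.two_le.trans (Nat.le_self_pow (by omega) p)
  obtain ⟨g, hgS⟩ := exists_named tb hK hna'
  rcases Cfsg.Agent.H192.Singer.cases_name hgS.cond with ⟨m, rfl⟩ | hsp' | ⟨l, hl, hch⟩
  · exfalso
    obtain ⟨Φ⟩ : Nonempty (S ≃* alternatingGroup (Fin m)) := hgS.real
    have hm : 5 ≤ m := hgS.cond
    have hnil : ∀ r, Prim (p ^ f) e r ∨ Prim (p ^ f) e' r → ∀ x : S, orderOf x = r →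
        Group.IsNilpotent (Subgroup.centralizer ({x} : Set S)) := by
      intro r hr x hx
      have := hcyc r hr x hx
      let _ := IsCyclic.commGroup (α := ↥(Subgroup.centralizer ({x} : Set S)))
      infer_instance
    have h1 := window hq hcl he7 (by omega) Φ (hcls e he) fun r hr => hnil r (Or.inl hr)
    have h2 := window hq hcl' he7' (by omega) Φ (hcls e' he') fun r hr => hnil r (Or.inr hr)
    omega
  · exfalso
    have h1 := Cfsg.Agent.H192.Singer.spor_mem hsp'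
    have h2 : Nat.card S = ordN g := hgS.ord
    exact hsp _ h1 (fun e he => by rw [← h2]; exact hcls e he) (by rw [← h2]; exact hd)
  · by_cases hpl : p = l
    · subst hpl
      exact ⟨g, hgS, hch⟩
    · exfalso
      obtain ⟨X, f₁, h1, h2, -⟩ := exists_lie hl hgS hch
      have hlF : (l : F) ≠ 0 := by
        intro h
        exact hpl ((Nat.prime_dvd_prime_iff_eq hp hl).1 ((CharP.cast_eq_zero_iff F p l).1 h))
      have h3 := lb_le hna' hn hrep h1 hgS.real h2 hlF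
      exact no_cross hn hb hs he₀ hmem hle h2 h3 hp hf hpl hcls hd

/-- the small fields, `q ≠ 2` -/
def sm3 : List (ℕ × ℕ) := [(3, 3), (2, 4), (5, 5), (7, 7)]

def svS3 (Y : Art.Sh) (cls : List ℕ) : Bool := Cfsg.Agent.OrdDiv.spor.all fun x => sm3.all fun y => !(tq Y cls x.2 1 y.2)

/-- **Sporadic groups**, `3 ≤ q`. -/
theorem no_spor3 (hb : bndS e₀ = true) (hs : svS3 Y cls = true) (he₀ : Cls e₀) (hmem : e₀ ∈ cls)
    (hle : ∀ q, ncl e₀ q ≤ 2701 → q ≤ 7)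
    (hp : p.Prime) (hf : 1 ≤ f) (hq3 : 3 ≤ p ^ f) : NoSp Y cls (p ^ f) := by
  intro x hx hcls hd
  have hq : 2 ≤ p ^ f := by omega
  have hs' : smooth x.2 = true := List.all_eq_true.1 smooth_spor x hx
  have hb' := List.all_eq_true.1 hb x hx
  simp only [Bool.and_eq_true, Nat.ble_eq, Nat.blt_eq] at hb'
  have hM0 : x.2 ≠ 0 := by
    have : ∀ x ∈ Cfsg.Agent.OrdDiv.spor, x.2 ≠ 0 := by decide +kernel
    exact this x hx
  have h1 : ncl e₀ (p ^ f) ∣ De (pd x.2) x.2 e₀ := by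
    refine dvd_De hM0 hb'.2 (hcls e₀ hmem) fun r hr hrd => ?_
    have hprim := prim_of_dvd he₀ (by omega) hr hrd
    exact ⟨mem_pd hs' hr (hrd.trans (hcls e₀ hmem)), mod_of_prim hq (by
      have := he₀.ge
      omega) hprim⟩
  have h2 : ncl e₀ (p ^ f) ≤ 2701 := by
    have h3 : De (pd x.2) x.2 e₀ ≠ 0 := by
      unfold De
      intro h4
      rw [List.prod_eq_zero_iff, List.mem_map] at h4
      obtain ⟨r, -, h5⟩ := h4
      exact hM0 (Nat.eq_zero_of_gcd_eq_zero_left h5)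
    exact (Nat.le_of_dvd (Nat.pos_of_ne_zero h3) h1).trans hb'.1
  have h3 := mem_sm hp hf (hle _ h2)
  have h3' : (p, p ^ f) ∈ sm3 := by
    have h5 : p ^ f ≠ 2 := by omega
    unfold sm at h3
    unfold sm3
    simp only [List.mem_cons, Prod.mk.injEq, List.not_mem_nil, or_false] at h3 ⊢
    omega
  have h4 := List.all_eq_true.1 (List.all_eq_true.1 hs x hx) _ h3'
  rw [tq_of hcls (one_mul _).symm hd] at h4
  simp at h4

end Cfsg.Agent.H190.Cov
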