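import Cfsg.Agent.H190.Cov.K98
import Cfsg.Agent.H190.Cov.K128
import Cfsg.Agent.H278.Cov.Defs

/-!
# S2499: the row `E₆(q)`, and `²E₆(q)`, `3 ≤ q`

The generators of the tori of the classes 9, 12, 8 (18, 12, 8) are pairwise incompatible.
-/

set_option autoImplicit false

namespace Cfsg.Agent.H190.Cov

open Cfsg Cfsg.Agent.OrdDiv Cfsg.Agent.H436 Cfsg.Agent.H902 Cfsg.Agent.H290.ElReg Cfsg.Agent.H290.ElTab
  Cfsg.Agent.H56.Exc Cfsg.Agent.H325.Loc Cfsg.Agent.H915.GN Cfsg.Agent.H264.FKS Cfsg.Agent.H325.Same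
  Cfsg.Agent.H563.KG Cfsg.Agent.H190.Odd Cfsg.Agent.H278.Cov

/-- the index of a subgroup whose order is divisible by `m / d` -/
theorem off_gen {G : Type*} [Group G] [Finite G] {H : Subgroup G} {m D d s v : ℕ} {K : ℤ} (hs : s.Prime)
    (hG : (D : ℤ) * Nat.card G = m * K) (hD : D ≠ 0) (hK : (K : ZMod s) = (v : ℕ)) (hv : ¬ s ∣ v) (hd : ¬ s ∣ d)
    (hm : m ∣ d * Nat.card H) : ¬ s ∣ H.index := by
  intro hi
  obtain ⟨a, ha⟩ := hm
  have hG0 : (Nat.card G : ℤ) ≠ 0 := by exact_mod_cast Nat.card_pos.ne'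
  have hm0 : (m : ℤ) ≠ 0 := by
    intro h
    rw [h, zero_mul] at hG
    exact (mul_ne_zero (by exact_mod_cast hD) hG0) hG
  have h1 : (D : ℤ) * H.index * a = d * K := by
    apply mul_left_cancel₀ hm0
    have h2 : (Nat.card G : ℤ) = H.index * Nat.card H := by exact_mod_cast (H.index_mul_card).symm
    have h3 : ((d * Nat.card H : ℕ) : ℤ) = m * a := by exact_mod_cast ha
    push_cast at h3
    calc (m : ℤ) * (D * H.index * a) = D * H.index * (m * a) := by ring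
      _ = D * H.index * (d * Nat.card H) := by rw [h3]
      _ = d * (D * (H.index * Nat.card H)) := by ring
      _ = d * (m * K) := by rw [← h2, hG]
      _ = m * (d * K) := by ring
  have h4 : (s : ℤ) ∣ d * K := h1 ▸ ((Int.natCast_dvd_natCast.2 hi).mul_left _).mul_right _
  rcases (Nat.prime_iff_prime_int.1 hs).dvd_or_dvd h4 with h5 | h5
  · exact hd (Int.natCast_dvd_natCast.1 h5)
  · rw [← ZMod.intCast_zmod_eq_zero_iff_dvd, hK, ZMod.natCast_eq_zero_iff] at h5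
    exact hv h5

theorem card_dvd_of_conj {G : Type*} [Group G] [Finite G] {y : G} {n : ℕ} (hy : orderOf y = n) {H : Subgroup G}
    {g : G} (h : g * y * g⁻¹ ∈ H) : n ∣ Nat.card H := by
  have h1 : orderOf (g * y * g⁻¹) = orderOf y := by
    rw [← MulAut.conj_apply]; exact (MulAut.conj g).orderOf_eq _
  rw [← hy, ← h1, ← Subgroup.orderOf_mk _ h]
  exact orderOf_dvd_natCard _

theorem com_of_conj {G : Type*} [Group G] [Finite G] {y : G} {n r t : ℕ} (hy : orderOf y = n) (hr : r ∣ n)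
    (ht : t ∣ n) {H : Subgroup G} {g : G} (h : g * y * g⁻¹ ∈ H) : @Com ↥H _ r t := by
  have h1 : orderOf (g * y * g⁻¹) = n := by
    rw [← hy, ← MulAut.conj_apply]; exact (MulAut.conj g).orderOf_eq _
  have h2 : orderOf (⟨g * y * g⁻¹, h⟩ : H) = n := by rw [Subgroup.orderOf_mk, h1]
  have h0 : n ≠ 0 := by rw [← hy]; exact (orderOf_pos y).ne'
  refine ⟨(⟨g * y * g⁻¹, h⟩ : H) ^ (n / r), (⟨g * y * g⁻¹, h⟩ : H) ^ (n / t), ?_, ?_, ?_⟩
  · conv_lhs => rw [← h2]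
    exact orderOf_pow_orderOf_div (by rw [h2]; exact h0) (by rw [h2]; exact hr)
  · conv_lhs => rw [← h2]
    exact orderOf_pow_orderOf_div (by rw [h2]; exact h0) (by rw [h2]; exact ht)
  · rw [← pow_add, ← pow_add, add_comm]

theorem exists_gen {G : Type*} [Group G] {T : Subgroup G} (h : IsCyclic ↥T) : ∃ y : G, orderOf y = Nat.card ↥T := by
  obtain ⟨y, hy⟩ := h.exists_ofOrder_eq_natCard
  exact ⟨y, by rw [Subgroup.orderOf_coe, hy]⟩

theorem not_dvd_three {s e : ℕ} (h : e < s) (he : 3 ≤ e) (n : ℕ) : ¬ s ∣ Nat.gcd 3 n := fun h1 => by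
  have := Nat.le_of_dvd (by norm_num) (h1.trans (Nat.gcd_dvd_left 3 n))
  omega

section E6

variable (tb : OrderTable.{0}) (hcyc : CycFixSolv.{0}) (hcf : CF) {F : Type} [Field F] [Fintype F]

include tb hcyc hcf

/-- **`E₆(q)` is not the union of the conjugates of two proper subgroups.** -/
theorem noTwo_chevE6 : NoTwo ↥(Lie.chevE6.group F) := by
  obtain ⟨q, hq⟩ : ∃ q, Fintype.card F = q := ⟨_, rfl⟩
  have hq2 : 2 ≤ q := by rw [← hq]; exact Fintype.one_lt_card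
  have hq1 : 1 ≤ q := by omega
  have hfin : Finite ↥(Lie.chevE6.group F) := inferInstance
  have hm9 : ((Ph 9 q : ℕ) : ℤ) = 1 + (q : ℤ) ^ 3 + (q : ℤ) ^ 6 := by
    rw [cast_Ph9]; ring
  have hm12 : ((Ph 12 q * (q ^ 2 + q + 1) : ℕ) : ℤ) =
      (1 - (q : ℤ) ^ 2 + (q : ℤ) ^ 4) * (1 + (q : ℤ) + (q : ℤ) ^ 2) := by
    rw [Nat.cast_mul, cast_Ph12 _ hq1]; push_cast; ring
  have hm8 : ((Ph 8 q * (q ^ 2 - 1) : ℕ) : ℤ) = (1 + (q : ℤ) ^ 4) * ((q : ℤ) ^ 2 - 1) := by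
    rw [Nat.cast_mul, cast_Ph8, cast_sub_one hq1]; ring
  obtain ⟨r9, hr9⟩ := exists_prim hq2 (show 3 ≤ 9 by norm_num) (by norm_num)
  obtain ⟨r12, hr12⟩ := exists_prim hq2 (show 3 ≤ 12 by norm_num) (by norm_num)
  obtain ⟨r8, hr8⟩ := exists_prim hq2 (show 3 ≤ 8 by norm_num) (by norm_num)
  obtain ⟨t, ht⟩ := exists_prim hq2 (show 3 ≤ 3 by norm_num) (by norm_num)
  have l9 := fun {s} (h : Prim q 9 s) => lt_of_prim hq2 (by norm_num) h
  have l12 := fun {s} (h : Prim q 12 s) => lt_of_prim hq2 (by norm_num) h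
  have l8 := fun {s} (h : Prim q 8 s) => lt_of_prim hq2 (by norm_num) h
  have lt := lt_of_prim hq2 (by norm_num) ht
  obtain ⟨T9, c9, -, m9, -, -⟩ := Cfsg.Agent.H129.CycCard.card_E6_9 hq hm9 hr9.prime (prim_dvd_9 hr9)
    (by have := l9 hr9; omega)
  obtain ⟨T12, c12, -, m12, d12, -⟩ := Cfsg.Agent.H129.CycCard.card_E6_12 hq hm12 hr12.prime (prim_dvd_12 hr12)
  obtain ⟨T8, c8, -, m8, -, -⟩ := Cfsg.Agent.H129.CycCard.card_E6_8 hq hm8 hr8.prime (prim_dvd_8 hr8)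
    (by have := l8 hr8; omega)
  obtain ⟨y9, hy9⟩ := exists_gen c9
  obtain ⟨y12, hy12⟩ := exists_gen c12
  obtain ⟨y8, hy8⟩ := exists_gen c8
  have hD : Nat.gcd 3 (q - 1) ≠ 0 := Nat.gcd_ne_zero_left (by norm_num)
  have ht12 : t ∣ Nat.card ↥T12 := by
    refine (ht.prime.dvd_mul.1 (Dvd.dvd.trans ?_ m12)).resolve_left (not_dvd_three lt le_rfl _)
    refine Dvd.dvd.mul_left ?_ _
    have h1 := prim_dvd_3 ht
    have h2 : (t : ℤ) ∣ ((q ^ 2 + q + 1 : ℕ) : ℤ) := by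
      push_cast
      rw [show (q : ℤ) ^ 2 + q + 1 = 1 + q + (q : ℤ) ^ 2 by ring]
      exact h1
    exact Int.natCast_dvd_natCast.1 h2
  have A9 : ∀ (H : Subgroup ↥(Lie.chevE6.group F)) g, g * y9 * g⁻¹ ∈ H → ∀ s, Prim q 9 s → ¬ s ∣ H.index := by
    intro H g hg s hs
    refine off_gen (D := Nat.gcd 3 (q - 1)) (v := 9) hs.prime (m := Ph 9 q) (K := (q : ℤ) ^ 36 * ((q : ℤ) ^ 2 - 1) *
      ((q : ℤ) ^ 5 - 1) * ((q : ℤ) ^ 6 - 1) * ((q : ℤ) ^ 8 - 1) * ((q : ℤ) ^ 3 - 1) * ((q : ℤ) ^ 12 - 1)) ?_ hD ?_ ?_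
      (not_dvd_three (l9 hs) (by norm_num) (q - 1)) (m9.trans (mul_dvd_mul_left _ (card_dvd_of_conj hy9 hg)))
    · rw [ord_E6 hq, hm9]; ring
    · push_cast
      exact Kap.kap_E6_9 _ (prim_phi_9 hs)
    · intro h
      have := Nat.le_of_dvd (by norm_num) h
      have := l9 hs
      omega
  have A12 : ∀ (H : Subgroup ↥(Lie.chevE6.group F)) g, g * y12 * g⁻¹ ∈ H → ∀ s, Prim q 12 s → ¬ s ∣ H.index := by
    intro H g hg s hs
    refine off_gen (D := Nat.gcd 3 (q - 1)) (v := 12) hs.prime (m := Ph 12 q * (q ^ 2 + q + 1)) (K := (q : ℤ) ^ 36 *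
      ((q : ℤ) ^ 2 - 1) * ((q : ℤ) ^ 5 - 1) * ((q : ℤ) ^ 6 - 1) * ((q : ℤ) ^ 8 - 1) * ((q : ℤ) ^ 9 - 1) *
      ((q : ℤ) - 1) * ((q : ℤ) + 1) * ((q : ℤ) ^ 2 + 1) * ((q : ℤ) ^ 2 - (q : ℤ) + 1)) ?_ hD ?_ ?_
      (not_dvd_three (l12 hs) (by norm_num) (q - 1)) (m12.trans (mul_dvd_mul_left _ (card_dvd_of_conj hy12 hg)))
    · rw [ord_E6 hq, hm12]; ring
    · push_cast
      exact Kap.kap_E6_12 _ (prim_phi_12 hs)
    · intro h
      have := Nat.le_of_dvd (by norm_num) h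
      have := l12 hs
      omega
  have A8 : ∀ (H : Subgroup ↥(Lie.chevE6.group F)) g, g * y8 * g⁻¹ ∈ H → ∀ s, Prim q 8 s → ¬ s ∣ H.index := by
    intro H g hg s hs
    refine off_gen (D := Nat.gcd 3 (q - 1)) (v := 8) hs.prime (m := Ph 8 q * (q ^ 2 - 1)) (K := (q : ℤ) ^ 36 *
      ((q : ℤ) ^ 5 - 1) * ((q : ℤ) ^ 6 - 1) * ((q : ℤ) ^ 4 - 1) * ((q : ℤ) ^ 9 - 1) * ((q : ℤ) ^ 12 - 1)) ?_ hD ?_ ?_
      (not_dvd_three (l8 hs) (by norm_num) (q - 1)) (m8.trans (mul_dvd_mul_left _ (card_dvd_of_conj hy8 hg)))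
    · rw [ord_E6 hq, hm8]; ring
    · push_cast
      exact kap_E6_8 (prim_phi_8 hs)
    · intro h
      have := Nat.le_of_dvd (by norm_num) h
      have := l8 hs
      omega
  refine noTwo_of_three (x := y9) (y := y12) (z := y8) (fun H hH => ?_) (fun H hH => ?_) (fun H hH => ?_)
  · by_contra hcon
    rw [not_or] at hcon
    obtain ⟨g, hg⟩ := not_av hcon.1
    obtain ⟨g', hg'⟩ := not_av hcon.2
    refine hH (K_E6 tb hcyc hcf H fun c hc s hs => ?_)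
    rw [hq] at hs
    have hc' : c = 9 ∨ c = 12 := by simpa using hc
    rcases hc' with rfl | rfl
    · exact A9 H g hg s hs
    · exact A12 H g' hg' s hs
  · by_contra hcon
    rw [not_or] at hcon
    obtain ⟨g, hg⟩ := not_av hcon.1
    obtain ⟨g', hg'⟩ := not_av hcon.2
    refine hH (K128_E6 tb hcyc hcf H (fun c hc s hs => ?_) (r := r12) (t := t) (by rw [hq]; exact hr12)
      (by rw [hq]; exact ht) (com_of_conj hy12 d12 ht12 hg))
    rw [hq] at hs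
    have hc' : c = 12 ∨ c = 8 := by simpa using hc
    rcases hc' with rfl | rfl
    · exact A12 H g hg s hs
    · exact A8 H g' hg' s hs
  · by_contra hcon
    rw [not_or] at hcon
    obtain ⟨g, hg⟩ := not_av hcon.1
    obtain ⟨g', hg'⟩ := not_av hcon.2
    refine hH (K98_E6 tb hcyc hcf H fun c hc s hs => ?_)
    rw [hq] at hs
    have hc' : c = 9 ∨ c = 8 := by simpa using hc
    rcases hc' with rfl | rfl
    · exact A9 H g hg s hs
    · exact A8 H g' hg' s hs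

/-- **S2499, the row `E₆(q)`.** -/
theorem noTwo_e6 {q : ℕ} {T : Type} [Group T] [Finite T] (h : IsNamed (.e6 q) T) : NoTwo T := by
  obtain ⟨F, _, _, -, ⟨e⟩⟩ := h.real
  exact (noTwo_chevE6 tb hcyc hcf (F := F)).congr e.symm

/-- **`²E₆(q)`, `3 ≤ q`, is not the union of the conjugates of two proper subgroups.** -/
theorem noTwo_twistedE6 {q : ℕ} (hq : IsPrimePow q) (hK : Fintype.card F = q ^ 2) (hq3 : 3 ≤ q) :
    NoTwo ↥(Lie.twistedE6 F q) := by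
  have hq2 : 2 ≤ q := by omega
  have hq1 : 1 ≤ q := by omega
  have hle : q ≤ q ^ 2 := Nat.le_self_pow (by norm_num) q
  have hfin : Finite ↥(Lie.twistedE6 F q) := inferInstance
  have hm18 : ((Ph 18 q : ℕ) : ℤ) = 1 - (q : ℤ) ^ 3 + (q : ℤ) ^ 6 := by
    rw [cast_Ph18 _ hq1]; ring
  have hm12 : ((Ph 12 q * (q ^ 2 - q + 1) : ℕ) : ℤ) =
      (1 - (q : ℤ) ^ 2 + (q : ℤ) ^ 4) * (1 - (q : ℤ) + (q : ℤ) ^ 2) := by
    rw [Nat.cast_mul, cast_Ph12 _ hq1, Nat.cast_add, Nat.cast_sub hle]; push_cast; ring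
  have hm8 : ((Ph 8 q * (q ^ 2 - 1) : ℕ) : ℤ) = (1 + (q : ℤ) ^ 4) * ((q : ℤ) ^ 2 - 1) := by
    rw [Nat.cast_mul, cast_Ph8, cast_sub_one hq1]; ring
  obtain ⟨r18, hr18⟩ := exists_prim hq2 (show 3 ≤ 18 by norm_num) (by norm_num)
  obtain ⟨r12, hr12⟩ := exists_prim hq2 (show 3 ≤ 12 by norm_num) (by norm_num)
  obtain ⟨r8, hr8⟩ := exists_prim hq2 (show 3 ≤ 8 by norm_num) (by norm_num)
  obtain ⟨t, ht⟩ := exists_prim hq2 (show 3 ≤ 6 by norm_num) (by omega)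
  have l18 := fun {s} (h : Prim q 18 s) => lt_of_prim hq2 (by norm_num) h
  have l12 := fun {s} (h : Prim q 12 s) => lt_of_prim hq2 (by norm_num) h
  have l8 := fun {s} (h : Prim q 8 s) => lt_of_prim hq2 (by norm_num) h
  have lt := lt_of_prim hq2 (by norm_num) ht
  obtain ⟨T18, c18, -, m18, -, -⟩ := Cfsg.Agent.H129.CycCard.card_tE6_18 hq hK hm18 hr18.prime (prim_dvd_18 hr18)
    (by have := l18 hr18; omega)
  obtain ⟨T12, c12, -, m12, d12, -⟩ := Cfsg.Agent.H129.CycCard.card_tE6_12 hq hK hm12 hr12.prime (prim_dvd_12 hr12)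
  obtain ⟨T8, c8, -, m8, -, -⟩ := Cfsg.Agent.H129.CycCard.card_tE6_8 hq hK hm8 hr8.prime (prim_dvd_8 hr8)
    (by have := l8 hr8; omega)
  obtain ⟨y18, hy18⟩ := exists_gen c18
  obtain ⟨y12, hy12⟩ := exists_gen c12
  obtain ⟨y8, hy8⟩ := exists_gen c8
  have hD : Nat.gcd 3 (q + 1) ≠ 0 := Nat.gcd_ne_zero_left (by norm_num)
  have ht12 : t ∣ Nat.card ↥T12 := by
    refine (ht.prime.dvd_mul.1 (Dvd.dvd.trans ?_ m12)).resolve_left (not_dvd_three lt (by norm_num) _)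
    refine Dvd.dvd.mul_left ?_ _
    have h1 := prim_dvd_6 ht
    have h2 : (t : ℤ) ∣ ((q ^ 2 - q + 1 : ℕ) : ℤ) := by
      push_cast [Nat.cast_sub hle]
      rw [show (q : ℤ) ^ 2 - q + 1 = 1 - q + (q : ℤ) ^ 2 by ring]
      exact h1
    exact Int.natCast_dvd_natCast.1 h2
  have A18 : ∀ (H : Subgroup ↥(Lie.twistedE6 F q)) g, g * y18 * g⁻¹ ∈ H → ∀ s, Prim q 18 s → ¬ s ∣ H.index := by
    intro H g hg s hs
    refine off_gen (D := Nat.gcd 3 (q + 1)) (v := 9) hs.prime (m := Ph 18 q) (K := (q : ℤ) ^ 36 * ((q : ℤ) ^ 2 - 1) *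
      ((q : ℤ) ^ 5 + 1) * ((q : ℤ) ^ 6 - 1) * ((q : ℤ) ^ 8 - 1) * ((q : ℤ) ^ 3 + 1) * ((q : ℤ) ^ 12 - 1)) ?_ hD ?_ ?_
      (not_dvd_three (l18 hs) (by norm_num) (q + 1)) (m18.trans (mul_dvd_mul_left _ (card_dvd_of_conj hy18 hg)))
    · rw [ord_TE6 hq hK, hm18]; ring
    · push_cast
      exact Kap.kap_TE6_18 _ (prim_phi_18 hs)
    · intro h
      have := Nat.le_of_dvd (by norm_num) h
      have := l18 hs
      omega
  have A12 : ∀ (H : Subgroup ↥(Lie.twistedE6 F q)) g, g * y12 * g⁻¹ ∈ H → ∀ s, Prim q 12 s → ¬ s ∣ H.index := by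
    intro H g hg s hs
    refine off_gen (D := Nat.gcd 3 (q + 1)) (v := 12) hs.prime (m := Ph 12 q * (q ^ 2 - q + 1)) (K := (q : ℤ) ^ 36 *
      ((q : ℤ) ^ 2 - 1) * ((q : ℤ) ^ 5 + 1) * ((q : ℤ) ^ 6 - 1) * ((q : ℤ) ^ 8 - 1) * ((q : ℤ) ^ 9 + 1) *
      ((q : ℤ) - 1) * ((q : ℤ) + 1) * ((q : ℤ) ^ 2 + 1) * ((q : ℤ) ^ 2 + (q : ℤ) + 1)) ?_ hD ?_ ?_
      (not_dvd_three (l12 hs) (by norm_num) (q + 1)) (m12.trans (mul_dvd_mul_left _ (card_dvd_of_conj hy12 hg)))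
    · rw [ord_TE6 hq hK, hm12]; ring
    · push_cast
      exact Kap.kap_TE6_12 _ (prim_phi_12 hs)
    · intro h
      have := Nat.le_of_dvd (by norm_num) h
      have := l12 hs
      omega
  have A8 : ∀ (H : Subgroup ↥(Lie.twistedE6 F q)) g, g * y8 * g⁻¹ ∈ H → ∀ s, Prim q 8 s → ¬ s ∣ H.index := by
    intro H g hg s hs
    refine off_gen (D := Nat.gcd 3 (q + 1)) (v := 8) hs.prime (m := Ph 8 q * (q ^ 2 - 1)) (K := (q : ℤ) ^ 36 *
      ((q : ℤ) ^ 5 + 1) * ((q : ℤ) ^ 6 - 1) * ((q : ℤ) ^ 4 - 1) * ((q : ℤ) ^ 9 + 1) * ((q : ℤ) ^ 12 - 1)) ?_ hD ?_ ?_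
      (not_dvd_three (l8 hs) (by norm_num) (q + 1)) (m8.trans (mul_dvd_mul_left _ (card_dvd_of_conj hy8 hg)))
    · rw [ord_TE6 hq hK, hm8]; ring
    · push_cast
      exact kap_TE6_8 (prim_phi_8 hs)
    · intro h
      have := Nat.le_of_dvd (by norm_num) h
      have := l8 hs
      omega
  refine noTwo_of_three (x := y18) (y := y12) (z := y8) (fun H hH => ?_) (fun H hH => ?_) (fun H hH => ?_)
  · by_contra hcon
    rw [not_or] at hcon
    obtain ⟨g, hg⟩ := not_av hcon.1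
    obtain ⟨g', hg'⟩ := not_av hcon.2
    refine hH (K_TE6 tb hcyc hcf hq hK H fun c hc s hs => ?_)
    have hc' : c = 18 ∨ c = 12 := by simpa using hc
    rcases hc' with rfl | rfl
    · exact A18 H g hg s hs
    · exact A12 H g' hg' s hs
  · by_contra hcon
    rw [not_or] at hcon
    obtain ⟨g, hg⟩ := not_av hcon.1
    obtain ⟨g', hg'⟩ := not_av hcon.2
    refine hH (K128_TE6 tb hcyc hcf hq hK hq3 H (fun c hc s hs => ?_) (r := r12) (t := t) hr12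
      ht (com_of_conj hy12 d12 ht12 hg))
    have hc' : c = 12 ∨ c = 8 := by simpa using hc
    rcases hc' with rfl | rfl
    · exact A12 H g hg s hs
    · exact A8 H g' hg' s hs
  · by_contra hcon
    rw [not_or] at hcon
    obtain ⟨g, hg⟩ := not_av hcon.1
    obtain ⟨g', hg'⟩ := not_av hcon.2
    refine hH (K188_TE6 tb hcyc hcf hq hK hq3 H fun c hc s hs => ?_)
    have hc' : c = 18 ∨ c = 8 := by simpa using hc
    rcases hc' with rfl | rfl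
    · exact A18 H g hg s hs
    · exact A8 H g' hg' s hs

end E6

end Cfsg.Agent.H190.Cov
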